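import Mathlib

/-!
# Groups containing the special linear group over an extension field

`F`-linear groups on a `K`-space containing all `K`-linear transvections and norm-one
dilatations, their images of `K`-lines, and elementary elements.
-/

set_option autoImplicit false

namespace Cfsg.Lib.Linear.ExtField

open Module

variable {F K V : Type*} [Field F] [Field K] [Algebra F K] [AddCommGroup V] [Module F V]
  [Module K V] [IsScalarTower F K V]

/-- `1 + a` lies in the group. -/
def InG (G : Subgroup (V ≃ₗ[F] V)) (a : V →ₗ[F] V) : Prop := ∃ g ∈ G, ∀ x, g x = x + a x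

section InG

variable {G : Subgroup (V ≃ₗ[F] V)} {a b c : V →ₗ[F] V}

omit [Module K V] [IsScalarTower F K V] in
theorem InG.congr (h : InG G a) (e : ∀ x, a x = b x) : InG G b := by
  obtain ⟨g, hg, hga⟩ := h
  exact ⟨g, hg, fun x => by rw [hga, e]⟩

omit [Module K V] [IsScalarTower F K V] in
theorem InG.zero : InG G (0 : V →ₗ[F] V) := ⟨1, G.one_mem, fun x => by simp⟩

omit [Module K V] [IsScalarTower F K V] in
theorem InG.add (ha : InG G a) (hb : InG G b) (h : ∀ x, a (b x) = 0) : InG G (a + b) := by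
  obtain ⟨g, hg, hga⟩ := ha
  obtain ⟨g', hg', hgb⟩ := hb
  refine ⟨g * g', G.mul_mem hg hg', fun x => ?_⟩
  show g (g' x) = _
  rw [hgb, hga, map_add, h, LinearMap.add_apply]
  abel

omit [Module K V] [IsScalarTower F K V] in
theorem InG.neg (ha : InG G a) (h : ∀ x, a (a x) = 0) : InG G (-a) := by
  obtain ⟨g, hg, hga⟩ := ha
  refine ⟨g⁻¹, G.inv_mem hg, fun x => ?_⟩
  show g.symm x = _
  rw [LinearEquiv.symm_apply_eq, hga, map_add, LinearMap.neg_apply, map_neg, h]
  abel

omit [Module K V] [IsScalarTower F K V] in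
theorem InG.conj (ha : InG G a) {h : V ≃ₗ[F] V} (hh : h ∈ G) (e : ∀ x, b (h x) = h (a x)) :
    InG G b := by
  obtain ⟨g, hg, hga⟩ := ha
  refine ⟨h * g * h⁻¹, G.mul_mem (G.mul_mem hh hg) (G.inv_mem hh), fun x => ?_⟩
  show h (g (h.symm x)) = _
  rw [hga, map_add, h.apply_symm_apply, ← e, h.apply_symm_apply]

omit [Module K V] [IsScalarTower F K V] in
/-- The commutator of two elementary elements. -/
theorem InG.comm (ha : InG G a) (hb : InG G b) (haa : ∀ x, a (a x) = 0) (hbb : ∀ x, b (b x) = 0)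
    (hba : ∀ x, b (a x) = 0) (e : ∀ x, c x = a (b x)) : InG G c := by
  obtain ⟨g, hg, hga⟩ := ha
  obtain ⟨g', hg', hgb⟩ := hb
  obtain ⟨k, hk, hka⟩ := InG.neg ⟨g, hg, hga⟩ haa
  obtain ⟨k', hk', hkb⟩ := InG.neg ⟨g', hg', hgb⟩ hbb
  refine ⟨g * g' * k * k', G.mul_mem (G.mul_mem (G.mul_mem hg hg') hk) hk', fun x => ?_⟩
  show g (g' (k (k' x))) = _
  rw [hkb, hka, hgb, hga, e]
  simp only [map_add, map_neg, LinearMap.neg_apply, haa, hbb, hba, map_zero, neg_zero, add_zero,
    neg_neg]
  abel

end InG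

variable (K)

/-- The group contains the `K`-linear elements needed and does not preserve all `K`-lines. -/
structure OverK (G : Subgroup (V ≃ₗ[F] V)) : Prop where
  sq : ∀ a : V →ₗ[K] V, (∀ x, a (a x) = 0) → InG G (a.restrictScalars F)
  dil : ∀ (μ : V →ₗ[K] K) (e : V) (s : K), μ e = 1 → Algebra.norm F s = 1 →
    InG G ((μ.smulRight ((s - 1) • e)).restrictScalars F)
  moved : ∃ g ∈ G, ∃ (v : V) (k : K), g (k • v) ∉ K ∙ g v

/-- The line of a vector. -/
def kl (u : V) : Submodule F V := (K ∙ u).restrictScalars F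

/-- An image of a line. -/
def IsLine (G : Subgroup (V ≃ₗ[F] V)) (W : Submodule F V) : Prop :=
  ∃ g ∈ G, ∃ u : V, u ≠ 0 ∧ W = (kl K u).map (g : V →ₗ[F] V)

variable {K} {G : Subgroup (V ≃ₗ[F] V)}

theorem mem_kl {u x : V} : x ∈ kl (F := F) K u ↔ ∃ k : K, k • u = x := by
  rw [kl, Submodule.restrictScalars_mem, Submodule.mem_span_singleton]

theorem smul_mem_kl (k : K) (u : V) : k • u ∈ kl (F := F) K u := mem_kl.2 ⟨k, rfl⟩

theorem self_mem_kl (u : V) : u ∈ kl (F := F) K u := mem_kl.2 ⟨1, one_smul K u⟩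

theorem finrank_kl {u : V} (hu : u ≠ 0) : finrank F (kl (F := F) K u) = finrank F K := by
  have he : LinearMap.range ((LinearMap.toSpanSingleton K V u).restrictScalars F) = kl K u := by
    ext x
    simp [mem_kl]
  rw [← he, LinearMap.finrank_range_of_inj]
  exact fun a b h => smul_left_injective K hu h

theorem isLine_kl {u : V} (hu : u ≠ 0) : IsLine K G (kl K u) :=
  ⟨1, G.one_mem, u, hu, by simp⟩

theorem IsLine.map {W : Submodule F V} (h : IsLine K G W) {g : V ≃ₗ[F] V} (hg : g ∈ G) :
    IsLine K G (W.map (g : V →ₗ[F] V)) := by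
  obtain ⟨g', hg', u, hu, rfl⟩ := h
  refine ⟨g * g', G.mul_mem hg hg', u, hu, ?_⟩
  rw [← Submodule.map_comp]
  rfl

theorem IsLine.finrank_eq {W : Submodule F V} (h : IsLine K G W) : finrank F W = finrank F K := by
  obtain ⟨g, -, u, hu, rfl⟩ := h
  rw [LinearEquiv.finrank_map_eq, finrank_kl hu]

theorem exists_functional (P : Submodule K V) {x : V} (hx : x ∉ P) :
    ∃ μ : V →ₗ[K] K, (∀ y ∈ P, μ y = 0) ∧ μ x = 1 := by
  obtain ⟨φ, hφx, hφP⟩ := Submodule.exists_dual_map_eq_bot_of_notMem hx inferInstance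
  refine ⟨(φ x)⁻¹ • φ, fun y hy => ?_, by simp [inv_mul_cancel₀ hφx]⟩
  have : φ y ∈ P.map φ := ⟨y, hy, rfl⟩
  rw [hφP, Submodule.mem_bot] at this
  simp [this]

/-- Translations along an image of a line. -/
theorem IsLine.transl (hG : OverK K G) {W : Submodule F V} (hW : IsLine K G W) {u w : V}
    (hu : u ∉ W) (hw : w ∈ W) :
    ∃ h ∈ G, (∀ y ∈ W, h y = y) ∧ h u = u + w := by
  obtain ⟨g, hg, v, -, rfl⟩ := hW
  rw [Submodule.mem_map_equiv] at hu hw
  obtain ⟨μ, hμ, hμu⟩ := exists_functional (K ∙ v) hu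
  let a : V →ₗ[K] V := μ.smulRight (g.symm w)
  have ha : InG G (a.restrictScalars F) := hG.sq a fun x => by
    simp [a, hμ _ hw]
  let b : V →ₗ[F] V := (g : V →ₗ[F] V) ∘ₗ a.restrictScalars F ∘ₗ (g.symm : V →ₗ[F] V)
  obtain ⟨h, hh, hhb⟩ := ha.conj (b := b) hg fun x => by simp [b]
  refine ⟨h, hh, fun y hy => ?_, ?_⟩
  · rw [Submodule.mem_map_equiv] at hy
    rw [hhb]
    simp [b, a, hμ _ hy]
  · rw [hhb]
    simp [b, a, hμu]

section Finite

variable [Finite K] [FiniteDimensional F K]

omit [AddCommGroup V] [Module F V] [Module K V] [IsScalarTower F K V] in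
/-- The elements of norm one generate the field additively. -/
theorem closure_normOne (hr : 2 ≤ finrank F K) :
    AddSubgroup.closure {s : K | Algebra.norm F s = 1} = ⊤ := by
  classical
  have : Finite F := Finite.of_injective _ (algebraMap F K).injective
  set S : Submonoid K := MonoidHom.mker (Algebra.norm F : K →* F) with hS
  have hSset : (S : Set K) = {s : K | Algebra.norm F s = 1} := by ext; simp [hS, MonoidHom.mem_mker]
  set R : Subring K := Subring.closure {s : K | Algebra.norm F s = 1} with hR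
  suffices hRt : R = ⊤ by
    refine top_le_iff.1 fun x _ => ?_
    have hx : x ∈ R := hRt ▸ Subring.mem_top x
    rw [hR, Subring.mem_closure_iff, ← hSset, Submonoid.closure_eq] at hx
    rwa [← hSset]
  have hfield : IsField R := Finite.isField_of_domain R
  let : Field R := hfield.toField
  have hcard := Module.natCard_eq_pow_finrank (K := R) (V := K)
  set q := Nat.card F
  set r := finrank F K
  have hQ : Nat.card K = q ^ r := Module.natCard_eq_pow_finrank
  have hq : 2 ≤ q := Finite.one_lt_card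
  let ν : Kˣ →* Fˣ := Units.map (Algebra.norm F : K →* F)
  have hker : q ^ r - 1 ≤ Nat.card ν.ker * (q - 1) := by
    have h1 := ν.ker.card_mul_index
    rw [Subgroup.index_ker, Nat.card_units K, hQ] at h1
    have h2 : Nat.card ν.range ≤ q - 1 :=
      (Nat.card_le_card_of_injective _ Subtype.val_injective).trans_eq (Nat.card_units F)
    rw [← h1]
    exact Nat.mul_le_mul_left _ h2
  have hle : Nat.card ν.ker ≤ Nat.card R := by
    refine Nat.card_le_card_of_injective (fun s => ⟨((s.1 : Kˣ) : K), Subring.subset_closure ?_⟩) ?_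
    · have := congrArg Units.val (MonoidHom.mem_ker.1 s.2)
      simpa [ν] using this
    · intro s t h
      exact Subtype.ext (Units.ext (congrArg Subtype.val h))
  have hbig : q ^ (r - 1) < Nat.card R := by
    by_contra hlt
    push Not at hlt
    have h3 : q ^ r - 1 ≤ q ^ (r - 1) * (q - 1) := hker.trans (Nat.mul_le_mul_right _ (hle.trans hlt))
    rw [Nat.mul_sub, mul_one, ← pow_succ, Nat.sub_add_cancel (by omega : 1 ≤ r)] at h3
    have h4 : q ≤ q ^ (r - 1) := Nat.le_self_pow (by omega) q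
    have h5 : q ^ (r - 1) ≤ q ^ r := Nat.pow_le_pow_right (by omega) (by omega)
    omega
  have he : finrank R K = 1 := by
    rw [hQ] at hcard
    have hpos : 0 < finrank R K := finrank_pos
    by_contra hne
    have h6 : Nat.card R ^ 2 ≤ q ^ r := hcard ▸ Nat.pow_le_pow_right Nat.card_pos (by omega)
    have h7 : (q ^ (r - 1)) ^ 2 < q ^ r := lt_of_lt_of_le (Nat.pow_lt_pow_left hbig (by norm_num)) h6
    rw [← pow_mul] at h7
    have := Nat.pow_le_pow_right (show 1 ≤ q by omega) (show r ≤ (r - 1) * 2 by omega)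
    omega
  rw [hQ, he, pow_one] at hcard
  refine SetLike.coe_injective ?_
  rw [Subring.coe_top]
  refine Set.eq_of_subset_of_ncard_le (Set.subset_univ _) ?_
  rw [Set.ncard_univ, hQ, ← Nat.card_coe_set_eq]
  exact hcard.le

omit [AddCommGroup V] [Module F V] [Module K V] [IsScalarTower F K V] in
theorem normOne_induction (hr : 2 ≤ finrank F K) {A : AddSubgroup K}
    (h : ∀ s : K, Algebra.norm F s = 1 → s ∈ A) (k : K) : k ∈ A := by
  have : (⊤ : AddSubgroup K) ≤ A := by
    rw [← closure_normOne (F := F) hr, AddSubgroup.closure_le]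
    exact h
  exact this (AddSubgroup.mem_top k)

/-- Only the whole space properly contains an image of a line and is invariant under its
pointwise stabiliser. -/
theorem IsLine.invariant_eq_top (hG : OverK K G) (hr : 2 ≤ finrank F K) {W S : Submodule F V}
    (hW : IsLine K G W) (hWS : W < S)
    (hinv : ∀ h ∈ G, (∀ y ∈ W, h y = y) → ∀ x ∈ S, h x ∈ S) : S = ⊤ := by
  obtain ⟨g, hg, v, -, rfl⟩ := hW
  set U := S.comap (g : V →ₗ[F] V) with hU
  have hUv : ∀ y ∈ kl (F := F) K v, y ∈ U := fun y hy => hWS.le ⟨y, hy, rfl⟩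
  have hinvU : ∀ a : V →ₗ[F] V, InG G a → (∀ y ∈ kl (F := F) K v, a y = 0) →
      ∀ x ∈ U, x + a x ∈ U := by
    intro a ha h0 x hx
    obtain ⟨h, hh, hha⟩ := ha
    have hfix : ∀ y ∈ (kl (F := F) K v).map (g : V →ₗ[F] V), (g * h * g⁻¹) y = y := by
      intro y hy
      rw [Submodule.mem_map_equiv] at hy
      show g (h (g.symm y)) = y
      rw [hha, h0 _ hy, add_zero, g.apply_symm_apply]
    have := hinv _ (G.mul_mem (G.mul_mem hg hh) (G.inv_mem hg)) hfix _ hx
    show g (x + a x) ∈ S
    rw [← hha]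
    simpa [LinearEquiv.mul_apply] using this
  obtain ⟨z, hzS, hz⟩ := SetLike.exists_of_lt hWS
  set x := g.symm z
  have hx : x ∈ U := by simpa [hU, x] using hzS
  have hxv : x ∉ K ∙ v := fun h => hz ((Submodule.mem_map_equiv _).2 h)
  refine eq_top_iff.2 fun t _ => ?_
  suffices ∀ e, e ∈ U by simpa [hU] using this (g.symm t)
  intro e
  have hsm : ∀ k : K, k • x ∈ U := by
    let A : AddSubgroup K := AddSubgroup.comap
      ((LinearMap.toSpanSingleton K V x).toAddMonoidHom) U.toAddSubgroup
    refine fun k => normOne_induction (F := F) hr (A := A) (fun s hs => ?_) k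
    obtain ⟨μ, hμ, hμx⟩ := exists_functional (K ∙ v) hxv
    have := hinvU _ (hG.dil μ x s hμx hs) (fun y hy => by simp [hμ y hy]) x hx
    show s • x ∈ U
    simpa [hμx, sub_smul] using this
  by_cases he : e ∈ Submodule.span K {v, x}
  · obtain ⟨a, b, rfl⟩ := Submodule.mem_span_pair.1 he
    exact U.add_mem (hUv _ (smul_mem_kl a v)) (hsm b)
  · have hx' : x ∉ Submodule.span K {v, e} := fun h => he
      (by rw [Set.pair_comm] at h ⊢; exact mem_span_insert_exchange h hxv)
    obtain ⟨μ, hμ, hμx⟩ := exists_functional _ hx'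
    have hμe : μ e = 0 := hμ e (Submodule.subset_span (by simp))
    have hμv : ∀ y ∈ kl (F := F) K v, μ y = 0 := fun y hy =>
      hμ y (Submodule.span_mono (by simp) hy)
    have := hinvU _ (hG.sq (μ.smulRight e) fun y => by simp [hμe])
      (fun y hy => by simp [hμv y hy]) x hx
    simpa [hμx] using U.sub_mem this hx

end Finite

end Cfsg.Lib.Linear.ExtField
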