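import Mathlib

/-!
# Linear maps of a finite field over a subfield

The automorphisms form a basis over the field acting on the left; bimodules of linear maps
are spanned by the automorphisms they meet.
-/

set_option autoImplicit false

namespace Cfsg.Lib.Linear.ExtField

open Module

variable (F : Type*) {K : Type*} [Field F] [Field K] [Algebra F K]

/-- Multiplication by a scalar. -/
abbrev kmul (k : K) : K →ₗ[F] K := LinearMap.mulLeft F k

variable {F}

/-- A left submodule of maps closed under multiplications on the right. -/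
def RightClosed (M : Submodule K (K →ₗ[F] K)) : Prop := ∀ φ ∈ M, ∀ k : K, φ ∘ₗ kmul F k ∈ M

variable [Finite K] [FiniteDimensional F K]

variable (F K) in
/-- The basis of automorphisms. -/
noncomputable def galBasis : Basis Gal(K/F) K (K →ₗ[F] K) :=
  have : Finite F := Finite.of_injective _ (algebraMap F K).injective
  basisOfLinearIndependentOfCardEqFinrank
    ((linearIndependent_toLinearMap F K K).comp (fun σ : Gal(K/F) => σ.toAlgHom)
      fun _ _ h => AlgEquiv.ext fun x => DFunLike.congr_fun h x)
    (by rw [Module.finrank_linearMap_self, ← Nat.card_eq_fintype_card, IsGalois.card_aut_eq_finrank])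

@[simp] theorem galBasis_apply (σ : Gal(K/F)) : galBasis F K σ = σ.toLinearMap := by
  rw [galBasis, coe_basisOfLinearIndependentOfCardEqFinrank]
  rfl

theorem comp_kmul (τ : Gal(K/F)) (k : K) :
    τ.toLinearMap ∘ₗ kmul F k = τ k • τ.toLinearMap := by
  ext x
  simp [map_mul]

theorem repr_comp_kmul (φ : K →ₗ[F] K) (k : K) (τ : Gal(K/F)) :
    (galBasis F K).repr (φ ∘ₗ kmul F k) τ = τ k * (galBasis F K).repr φ τ := by
  classical
  have e : φ ∘ₗ kmul F k = ∑ σ, (σ k * (galBasis F K).repr φ σ) • galBasis F K σ := by
    conv_lhs => rw [← (galBasis F K).sum_repr φ]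
    ext x
    simp only [galBasis_apply, LinearMap.comp_apply, LinearMap.sum_apply, LinearMap.smul_apply,
      smul_eq_mul]
    refine Finset.sum_congr rfl fun σ _ => ?_
    simp [map_mul]
    ring
  rw [e, (galBasis F K).repr_sum_self]

/-- Every automorphism occurring in an element lies in the bimodule. -/
theorem RightClosed.aut_mem {M : Submodule K (K →ₗ[F] K)} (hM : RightClosed M) {φ : K →ₗ[F] K}
    (hφ : φ ∈ M) {τ : Gal(K/F)} (h : (galBasis F K).repr φ τ ≠ 0) : τ.toLinearMap ∈ M := by
  classical
  induction hn : ((galBasis F K).repr φ).support.card using Nat.strong_induction_on generalizing φ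
  rename_i n ih
  subst hn
  by_cases hone : ∀ σ, (galBasis F K).repr φ σ ≠ 0 → σ = τ
  · have e : φ = (galBasis F K).repr φ τ • τ.toLinearMap := by
      conv_lhs => rw [← (galBasis F K).sum_repr φ]
      rw [Finset.sum_eq_single τ (fun σ _ hσ => by
        rw [show (galBasis F K).repr φ σ = 0 from by_contra fun h' => hσ (hone σ h'), zero_smul])
        (fun h' => absurd (Finset.mem_univ τ) h'), galBasis_apply]
    have := M.smul_mem ((galBasis F K).repr φ τ)⁻¹ hφ
    rw [e, map_smul] at this
    simpa [← galBasis_apply, smul_smul, inv_mul_cancel₀ h] using this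
  · push Not at hone
    obtain ⟨σ, hσ, hστ⟩ := hone
    obtain ⟨k, hk⟩ : ∃ k, σ k ≠ τ k := by
      by_contra hc
      push Not at hc
      exact hστ (AlgEquiv.ext hc)
    set ψ := φ ∘ₗ kmul F k - σ k • φ with hψ
    have hrep : ∀ ρ, (galBasis F K).repr ψ ρ = (ρ k - σ k) * (galBasis F K).repr φ ρ := fun ρ => by
      simp only [hψ, map_sub, map_smul, Finsupp.coe_sub, Finsupp.coe_smul, Pi.sub_apply,
        Pi.smul_apply, smul_eq_mul, repr_comp_kmul, sub_mul]
    refine ih ((galBasis F K).repr ψ).support.card (Finset.card_lt_card ?_) (φ := ψ)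
      (M.sub_mem (hM φ hφ k) (M.smul_mem _ hφ)) ?_ rfl
    · rw [Finset.ssubset_iff_of_subset]
      · exact ⟨σ, by simpa using hσ, by simp [hrep]⟩
      · intro ρ hρ
        rw [Finsupp.mem_support_iff] at hρ ⊢
        intro h0
        exact hρ (by rw [hrep, h0, mul_zero])
    · rw [hrep]
      exact mul_ne_zero (sub_ne_zero.2 hk.symm) h

theorem eq_top_of_forall {M : Submodule K (K →ₗ[F] K)}
    (h : ∀ σ : Gal(K/F), σ.toLinearMap ∈ M) : M = ⊤ := by
  rw [eq_top_iff, ← (galBasis F K).span_eq, Submodule.span_le]
  rintro _ ⟨σ, rfl⟩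
  rw [galBasis_apply]
  exact h σ

/-- A map which is not a multiplication involves a non-trivial automorphism. -/
theorem exists_ne_one_of_nonlinear {φ : K →ₗ[F] K} (h : ∃ k, φ k ≠ k * φ 1) :
    ∃ τ : Gal(K/F), τ ≠ 1 ∧ (galBasis F K).repr φ τ ≠ 0 := by
  classical
  obtain ⟨k, hk⟩ := h
  by_contra hc
  push Not at hc
  have e : φ = (galBasis F K).repr φ 1 • (1 : Gal(K/F)).toLinearMap := by
    conv_lhs => rw [← (galBasis F K).sum_repr φ]
    rw [Finset.sum_eq_single (1 : Gal(K/F)) (fun σ _ hσ => by rw [hc σ hσ, zero_smul])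
      (fun h' => absurd (Finset.mem_univ _) h'), galBasis_apply]
  refine hk ?_
  conv_lhs => rw [e]
  conv_rhs => rw [e]
  simp [mul_comm]

/-- The identity plus a multiple of the trace. -/
noncomputable def trP (y : K) : K →ₗ[F] K :=
  LinearMap.id + (Algebra.trace F K).smulRight y

omit [Finite K] in
theorem trP_apply (y x : K) : trP (F := F) y x = x + Algebra.trace F K x • y := rfl

theorem repr_trP_ne_zero {y : K} (hy : y ≠ 0) (hy' : y ≠ -1) (τ : Gal(K/F)) :
    (galBasis F K).repr (trP (F := F) y) τ ≠ 0 := by
  classical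
  have : Finite F := Finite.of_injective _ (algebraMap F K).injective
  have e : (trP y : K →ₗ[F] K) = ∑ σ, ((if σ = 1 then 1 else 0) + y) • galBasis F K σ := by
    ext x
    simp only [galBasis_apply, LinearMap.sum_apply, LinearMap.smul_apply, trP_apply, add_smul,
      Finset.sum_add_distrib, smul_eq_mul, ite_mul, one_mul, zero_mul, Finset.sum_ite_eq',
      Finset.mem_univ, if_true, Algebra.smul_def, trace_eq_sum_automorphisms, ← Finset.mul_sum]
    simp [mul_comm, Finset.sum_mul, Finset.mul_sum]
  rw [e, (galBasis F K).repr_sum_self]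
  split_ifs
  · exact fun h => hy' (eq_neg_of_add_eq_zero_right h)
  · simpa using hy

theorem trP_injective {y : K} (hy : 1 + Algebra.trace F K y ≠ 0) :
    Function.Injective (trP (F := F) y) := by
  rw [← LinearMap.ker_eq_bot, LinearMap.ker_eq_bot']
  intro x hx
  rw [trP_apply] at hx
  have h1 := congrArg (Algebra.trace F K) hx
  rw [map_add, map_smul, map_zero, smul_eq_mul] at h1
  have h2 : Algebra.trace F K x * (1 + Algebra.trace F K y) = 0 := by linear_combination h1
  rw [mul_eq_zero, or_iff_left hy] at h2
  rwa [h2, zero_smul, add_zero] at hx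

/-- Apart from the field with four elements over two, a suitable trace-zero element exists. -/
theorem exists_trace_zero (hr : 2 ≤ finrank F K) (h4 : Nat.card K ≠ 4) :
    ∃ y : K, y ≠ 0 ∧ y ≠ -1 ∧ Algebra.trace F K y = 0 := by
  classical
  have : Finite F := Finite.of_injective _ (algebraMap F K).injective
  by_contra hc
  push Not at hc
  have hsub : (LinearMap.ker (Algebra.trace F K) : Set K) ⊆ {0, -1} := fun y hy => by
    by_contra h
    simp only [Set.mem_insert_iff, Set.mem_singleton_iff, not_or] at h
    exact hc y h.1 h.2 hy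
  have hle : Nat.card (LinearMap.ker (Algebra.trace F K)) ≤ 2 := by
    rw [← SetLike.coe_sort_coe, Nat.card_coe_set_eq]
    exact (Set.ncard_le_ncard hsub).trans
      ((Set.ncard_insert_le _ _).trans (by rw [Set.ncard_singleton]))
  have h1 := (Algebra.trace F K).finrank_range_add_finrank_ker
  have h2 := Submodule.finrank_le (LinearMap.range (Algebra.trace F K))
  rw [finrank_self] at h2
  rw [Module.natCard_eq_pow_finrank (K := F)] at hle
  have hq : 2 ≤ Nat.card F := Finite.one_lt_card
  have h3 : finrank F (LinearMap.ker (Algebra.trace F K)) ≤ 1 := by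
    by_contra h
    have := (Nat.pow_le_pow_right (show 1 ≤ Nat.card F by omega) (not_le.1 h)).trans hle
    nlinarith
  have h5 : finrank F (LinearMap.ker (Algebra.trace F K)) = 1 := by omega
  rw [h5, pow_one] at hle
  refine h4 ?_
  rw [Module.natCard_eq_pow_finrank (K := F), show finrank F K = 2 by omega,
    show Nat.card F = 2 by omega]
  norm_num

end Cfsg.Lib.Linear.ExtField
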