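import Cfsg.Agent.Lib.Linear.ExtField.Flats
import Cfsg.Agent.Lib.Linear.ExtField.Gal

/-!
# Elementary elements with additive coefficients

The coefficient sets of the elementary elements in a basis, and a non-linear coefficient in
dimension at least three.
-/

set_option autoImplicit false

namespace Cfsg.Lib.Linear.ExtField

open Module

variable {F K V : Type*} [Field F] [Field K] [Algebra F K] [AddCommGroup V] [Module F V]
  [Module K V] [IsScalarTower F K V] {G : Subgroup (V ≃ₗ[F] V)} {ι : Type*} {e : Basis ι K V}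

/-- The map `x ↦ φ (μ x) • u`. -/
def lin (u : V) (μ : V →ₗ[K] K) (φ : K →ₗ[F] K) : V →ₗ[F] V :=
  ((LinearMap.toSpanSingleton K V u).restrictScalars F) ∘ₗ φ ∘ₗ μ.restrictScalars F

@[simp] theorem lin_apply (u : V) (μ : V →ₗ[K] K) (φ : K →ₗ[F] K) (x : V) :
    lin u μ φ x = φ (μ x) • u := rfl

variable (G e)

/-- The coefficient `φ` of the elementary element at `(i, j)` is available in the group. -/
def InC (i j : ι) (φ : K →ₗ[F] K) : Prop := InG G (lin (e i) (e.coord j) φ)

variable {G e}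

theorem coord_self [DecidableEq ι] (i j : ι) : e.coord j (e i) = if i = j then 1 else 0 := by
  simp [Basis.coord_apply, Finsupp.single_apply]

theorem lin_sq {i j : ι} (hij : i ≠ j) (φ ψ : K →ₗ[F] K) (x : V) :
    lin (e i) (e.coord j) φ (lin (e i) (e.coord j) ψ x) = 0 := by
  classical
  simp [Basis.coord_apply, Finsupp.single_apply, hij]

theorem InC.zero (i j : ι) : InC G e i j 0 := InG.zero.congr fun x => by simp

theorem InC.add {i j : ι} (hij : i ≠ j) {φ ψ : K →ₗ[F] K} (h : InC G e i j φ) (h' : InC G e i j ψ) :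
    InC G e i j (φ + ψ) :=
  (InG.add h h' (lin_sq hij φ ψ)).congr fun x => by simp [add_smul]

theorem InC.neg {i j : ι} (hij : i ≠ j) {φ : K →ₗ[F] K} (h : InC G e i j φ) : InC G e i j (-φ) :=
  (InG.neg h (lin_sq hij φ φ)).congr fun x => by simp

theorem InC.scalar (hG : OverK K G) {i j : ι} (hij : i ≠ j) (k : K) : InC G e i j (kmul F k) := by
  classical
  refine (hG.sq ((e.coord j).smulRight (k • e i)) fun x => ?_).congr fun x => ?_
  · simp [Finsupp.single_apply, hij]
  · simp [smul_smul, mul_comm]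

theorem InC.one (hG : OverK K G) {i j : ι} (hij : i ≠ j) : InC G e i j LinearMap.id :=
  (InC.scalar (e := e) hG hij 1).congr fun x => by simp

theorem InC.comp {i j l : ι} (hij : i ≠ j) (hjl : j ≠ l) (hil : i ≠ l) {φ ψ : K →ₗ[F] K}
    (h : InC G e i j φ) (h' : InC G e j l ψ) : InC G e i l (φ ∘ₗ ψ) := by
  classical
  refine InG.comm h h' (lin_sq hij φ φ) (lin_sq hjl ψ ψ) (fun x => ?_) fun x => ?_
  · simp [Basis.coord_apply, Finsupp.single_apply, hil]
  · simp [Basis.coord_apply]

theorem InC.moveRow (hG : OverK K G) {i j l : ι} (hij : i ≠ j) (hil : i ≠ l) {φ : K →ₗ[F] K}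
    (h : InC G e i j φ) : InC G e i l φ := by
  by_cases hjl : j = l
  · exact hjl ▸ h
  · simpa using InC.comp hij hjl hil h (InC.one hG hjl)

theorem InC.moveCol (hG : OverK K G) {i j k : ι} (hij : i ≠ j) (hkj : k ≠ j) {φ : K →ₗ[F] K}
    (h : InC G e i j φ) : InC G e k j φ := by
  by_cases hki : k = i
  · exact hki ▸ h
  · simpa using InC.comp hki hij hkj (InC.one hG hki) h

/-- With three indices all positions have the same coefficients. -/
theorem InC.move (hG : OverK K G) (hthird : ∀ a b : ι, ∃ c, a ≠ c ∧ b ≠ c) {i j k l : ι}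
    (hij : i ≠ j) (hkl : k ≠ l) {φ : K →ₗ[F] K} (h : InC G e i j φ) : InC G e k l φ := by
  by_cases hil : i = l
  · subst hil
    by_cases hkj : k = j
    · subst hkj
      obtain ⟨c, hic, hkc⟩ := hthird i k
      exact InC.moveRow hG hkc hkl (InC.moveCol hG hic hkc (InC.moveRow hG hij hic h))
    · exact InC.moveRow hG hkj hkl (InC.moveCol hG hij hkj h)
  · exact InC.moveCol hG hil hkl (InC.moveRow hG hij hil h)

theorem InC.mulLeft (hG : OverK K G) {i j : ι} (hij : i ≠ j) {s : K} (hs : Algebra.norm F s = 1)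
    {φ : K →ₗ[F] K} (h : InC G e i j φ) : InC G e i j (s • φ) := by
  classical
  obtain ⟨d, hd, hda⟩ := hG.dil (e.coord i) (e i) s (by simp) hs
  refine InG.conj h hd fun x => ?_
  simp [hda, Basis.coord_apply, Finsupp.single_apply, hij, hij.symm, ← add_smul, smul_smul,
    mul_sub, sub_mul, mul_comm]

section Finite

variable [Finite K] [FiniteDimensional F K]

omit [Finite K] in
theorem InC.mulRight (hG : OverK K G) {i j : ι} (hij : i ≠ j) {s : K} (hs : Algebra.norm F s = 1)
    {φ : K →ₗ[F] K} (h : InC G e i j φ) : InC G e i j (φ ∘ₗ kmul F s) := by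
  classical
  have hs0 : s ≠ 0 := fun e0 => by
    rw [e0, Algebra.norm_zero] at hs
    exact zero_ne_one hs
  obtain ⟨d, hd, hda⟩ := hG.dil (e.coord j) (e j) s⁻¹ (by simp) (by
    have := (Algebra.norm F : K →* F).map_mul s s⁻¹
    rwa [mul_inv_cancel₀ hs0, map_one, hs, one_mul, eq_comm] at this)
  refine InG.conj h hd fun x => ?_
  simp [hda, Basis.coord_apply, Finsupp.single_apply, hij, hij.symm, mul_sub, mul_add]
  rw [mul_comm s, mul_assoc, inv_mul_cancel₀ hs0, mul_one]

/-- The coefficients at a position as a submodule. -/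
def cMod (hG : OverK K G) (hr : 2 ≤ finrank F K) {i j : ι} (hij : i ≠ j) :
    Submodule K (K →ₗ[F] K) where
  carrier := {φ | InC G e i j φ}
  zero_mem' := InC.zero i j
  add_mem' h h' := InC.add hij h h'
  smul_mem' k φ h := by
    let A : AddSubgroup K :=
      { carrier := {k | InC G e i j (k • φ)}
        zero_mem' := by
          show InC G e i j ((0 : K) • φ)
          rw [zero_smul]
          exact InC.zero i j
        add_mem' := fun {a b} ha hb => by
          show InC G e i j ((a + b) • φ)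
          rw [add_smul]
          exact InC.add hij ha hb
        neg_mem' := fun ha => (InC.neg hij ha).congr fun x => by simp }
    exact normOne_induction (F := F) hr (A := A) (fun s hs => InC.mulLeft hG hij hs h) k

theorem mem_cMod {hG : OverK K G} {hr : 2 ≤ finrank F K} {i j : ι} {hij : i ≠ j} {φ : K →ₗ[F] K} :
    φ ∈ cMod (e := e) hG hr hij ↔ InC G e i j φ := Iff.rfl

theorem cMod_rightClosed (hG : OverK K G) (hr : 2 ≤ finrank F K) {i j : ι} (hij : i ≠ j) :
    RightClosed (cMod (e := e) hG hr hij) := by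
  intro φ hφ k
  let A : AddSubgroup K :=
    { carrier := {k | InC G e i j (φ ∘ₗ kmul F k)}
      zero_mem' := (InC.zero (e := e) i j).congr fun x => by simp
      add_mem' := fun ha hb => (InC.add hij ha hb).congr fun x => by simp [add_mul]
      neg_mem' := fun ha => (InC.neg hij ha).congr fun x => by simp }
  exact normOne_induction (F := F) hr (A := A) (fun s hs => InC.mulRight hG hij hs hφ) k

omit [Finite K] [FiniteDimensional F K] in
/-- Translations along `K`-subspaces. -/
theorem exists_transl (hG : OverK K G) (P : Submodule K V) {x t : V} (hx : x ∉ P ⊔ K ∙ t) :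
    ∃ h ∈ G, (∀ y ∈ P, h y = y) ∧ h x = x + t := by
  obtain ⟨μ, hμ, hμx⟩ := exists_functional _ hx
  have hμt : μ t = 0 := hμ t (le_sup_right (a := P) (Submodule.mem_span_singleton_self t))
  obtain ⟨h, hh, hha⟩ := hG.sq (μ.smulRight t) fun y => by simp [hμt]
  refine ⟨h, hh, fun y hy => ?_, ?_⟩
  · rw [hha]
    simp [hμ y (le_sup_left (b := K ∙ t) hy)]
  · rw [hha]
    simp [hμx]

omit [Finite K] [FiniteDimensional F K] in
theorem exists_notMem_two {P Q : Submodule K V} (hP : P ≠ ⊤) (hQ : Q ≠ ⊤) :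
    ∃ x, x ∉ P ∧ x ∉ Q := by
  obtain ⟨y, -, hy⟩ := SetLike.exists_of_lt hP.lt_top
  obtain ⟨z, -, hz⟩ := SetLike.exists_of_lt hQ.lt_top
  by_cases hyQ : y ∈ Q
  · by_cases hzP : z ∈ P
    · exact ⟨y + z, fun h => hy (by simpa using P.sub_mem h hzP),
        fun h => hz (by simpa using Q.sub_mem h hyQ)⟩
    · exact ⟨z, hzP, hz⟩
  · exact ⟨y, hy, hyQ⟩

omit [Finite K] [FiniteDimensional F K] in
/-- In dimension at least three the stabiliser of an image of a line is transitive off it. -/
theorem IsLine.trans_off [FiniteDimensional K V] (hG : OverK K G) (h3 : 3 ≤ finrank K V)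
    {W : Submodule F V} (hW : IsLine K G W) {x₁ x₂ : V} (hx₁ : x₁ ∉ W) (hx₂ : x₂ ∉ W) :
    ∃ h ∈ G, (∀ y ∈ W, h y = y) ∧ h x₁ = x₂ := by
  obtain ⟨g, hg, v, -, rfl⟩ := hW
  rw [Submodule.mem_map_equiv] at hx₁ hx₂
  set a := g.symm x₁
  set b := g.symm x₂
  have hne : ∀ c : V, Submodule.span K {v, c} ≠ ⊤ := fun c he => by
    classical
    have h1 := finrank_span_le_card (R := K) (({v, c} : Finset V) : Set V)
    rw [Finset.toFinset_coe, Finset.coe_pair, he, finrank_top] at h1
    have := h1.trans Finset.card_le_two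
    omega
  obtain ⟨c, hca, hcb⟩ := exists_notMem_two (hne a) (hne b)
  have h1 : a ∉ (K ∙ v) ⊔ K ∙ (c - a) := by
    rw [← Submodule.span_union, Set.singleton_union]
    intro h
    obtain ⟨s, t, hst⟩ := Submodule.mem_span_pair.1 h
    by_cases ht : t = 0
    · exact hx₁ (mem_kl.2 ⟨s, by rw [← hst, ht, zero_smul, add_zero]⟩)
    · refine hca (Submodule.mem_span_pair.2 ⟨-(t⁻¹ * s), t⁻¹ + 1, ?_⟩)
      have h' : c - a = t⁻¹ • (a - s • v) := by
        rw [← eq_sub_of_add_eq' hst, inv_smul_smul₀ ht]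
      rw [add_smul, one_smul, neg_smul, mul_smul, eq_add_of_sub_eq h', smul_sub]
      abel
  have h2 : c ∉ (K ∙ v) ⊔ K ∙ (b - c) := by
    rw [← Submodule.span_union, Set.singleton_union]
    intro h
    obtain ⟨s, t, hst⟩ := Submodule.mem_span_pair.1 h
    rw [smul_sub] at hst
    by_cases ht : 1 + t = 0
    · refine hx₂ (mem_kl.2 ⟨s, ?_⟩)
      rw [eq_neg_of_add_eq_zero_right ht, neg_one_smul, neg_one_smul, sub_neg_eq_add] at hst
      rw [← sub_eq_zero, ← sub_eq_zero.2 hst]
      abel
    · refine hcb (Submodule.mem_span_pair.2 ⟨(1 + t)⁻¹ * s, (1 + t)⁻¹ * t, ?_⟩)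
      rw [mul_smul, mul_smul, ← smul_add, inv_smul_eq_iff₀ ht, add_smul, one_smul]
      rw [← add_sub_assoc, sub_eq_iff_eq_add] at hst
      exact hst
  obtain ⟨k₁, hk₁, hfix₁, he₁⟩ := exists_transl hG _ h1
  obtain ⟨k₂, hk₂, hfix₂, he₂⟩ := exists_transl hG _ h2
  refine ⟨g * (k₂ * k₁) * g⁻¹, G.mul_mem (G.mul_mem hg (G.mul_mem hk₂ hk₁)) (G.inv_mem hg),
    fun y hy => ?_, ?_⟩
  · rw [Submodule.mem_map_equiv] at hy
    show g (k₂ (k₁ (g.symm y))) = y
    rw [hfix₁ _ hy, hfix₂ _ hy, g.apply_symm_apply]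
  · show g (k₂ (k₁ a)) = x₂
    rw [he₁, add_sub_cancel, he₂, add_sub_cancel, g.apply_symm_apply]

/-- An image of a line inside the span of two basis vectors through both. -/
theorem exists_small_line [FiniteDimensional K V] (hG : OverK K G) (h3 : 3 ≤ finrank K V)
    (hr : (finrank F K).Prime) {a b : ι} (hab : a ≠ b) :
    ∃ W, IsLine K G W ∧ e a ∈ W ∧ e b ∈ W ∧ ∀ x ∈ W, x ∈ Submodule.span K {e a, e b} := by
  classical
  have : FiniteDimensional F V := Module.Finite.trans K V
  set P : Submodule K V := Submodule.span K {e a, e b}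
  have hR : Reach G 2 := (reach_flat hG (by omega) hr 2 hr.two_le (Or.inr le_rfl)).1
  set Y := Submodule.span F (Set.range ![e a, e b]) with hYdef
  have hY : finrank F Y = 2 := by
    rw [hYdef, finrank_span_eq_card, Fintype.card_fin]
    rw [LinearIndependent.pair_iff]
    intro s t h
    rw [← algebraMap_smul K s, ← algebraMap_smul K t] at h
    have h1 := congrArg (e.coord a) h
    have h2 := congrArg (e.coord b) h
    simp [Finsupp.single_apply, hab, hab.symm, map_add] at h1 h2
    exact ⟨h1, h2⟩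
  obtain ⟨W₀, hW₀, hYW⟩ := exists_line_of_reach (by omega) hr.two_le hR hY
  have key : ∀ d, ∀ W, IsLine K G W → e a ∈ W → e b ∈ W →
      finrank F K ≤ finrank F ↥(W ⊓ P.restrictScalars F) + d →
      ∃ W', IsLine K G W' ∧ e a ∈ W' ∧ e b ∈ W' ∧ ∀ x ∈ W', x ∈ P := by
    intro d
    induction d with
    | zero =>
      intro W hW haW hbW hle
      refine ⟨W, hW, haW, hbW, fun x hx => ?_⟩
      have := Submodule.eq_of_le_of_finrank_le (inf_le_left : W ⊓ P.restrictScalars F ≤ W)
        (by rw [hW.finrank_eq]; omega)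
      rw [← this] at hx
      exact hx.2
    | succ d ih =>
      intro W hW haW hbW hle
      by_cases hWP : ∀ x ∈ W, x ∈ P
      · exact ⟨W, hW, haW, hbW, hWP⟩
      push Not at hWP
      obtain ⟨w, hwW, hwP⟩ := hWP
      obtain ⟨p, hpP, hpW⟩ : ∃ p ∈ P, p ∉ W := by
        by_contra hc
        push Not at hc
        have hle' : kl (F := F) K (e a) ≤ W := fun x hx => by
          obtain ⟨k, rfl⟩ := mem_kl.1 hx
          exact hc _ (P.smul_mem k (Submodule.subset_span (by simp)))
        have := Submodule.eq_of_le_of_finrank_eq hle' (by rw [hW.finrank_eq, finrank_kl (e.ne_zero a)])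
        rw [← this] at hbW
        obtain ⟨k, hk⟩ := mem_kl.1 hbW
        have h1 := congrArg (e.coord b) hk
        simp [Finsupp.single_apply, hab] at h1
      obtain ⟨h₁, hh₁, hfix₁, he₁⟩ := exists_transl hG P (x := w) (t := p)
        (by rwa [sup_eq_left.2 ((Submodule.span_singleton_le_iff_mem p P).2 hpP)])
      obtain ⟨h₂, hh₂, hfix₂, he₂⟩ := hW.trans_off hG h3
        (x₁ := w + p) (x₂ := p) (fun h => hpW (by simpa using W.sub_mem h hwW)) hpW
      have hmem : ∀ y ∈ W, y ∈ P → (h₂ * h₁) y = y := fun y hy hyP => by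
        show h₂ (h₁ y) = y
        rw [hfix₁ y hyP, hfix₂ y hy]
      refine ih (W.map ((h₂ * h₁ : V ≃ₗ[F] V) : V →ₗ[F] V)) (hW.map (G.mul_mem hh₂ hh₁))
        ⟨e a, haW, hmem _ haW (Submodule.subset_span (by simp))⟩
        ⟨e b, hbW, hmem _ hbW (Submodule.subset_span (by simp))⟩ ?_
      have hlt : W ⊓ P.restrictScalars F <
          W.map ((h₂ * h₁ : V ≃ₗ[F] V) : V →ₗ[F] V) ⊓ P.restrictScalars F := by
        refine lt_of_le_of_ne (fun y hy => ⟨⟨y, hy.1, hmem y hy.1 hy.2⟩, hy.2⟩) fun he => hpW ?_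
        have hp : p ∈ W.map ((h₂ * h₁ : V ≃ₗ[F] V) : V →ₗ[F] V) ⊓ P.restrictScalars F := by
          refine ⟨⟨w, hwW, ?_⟩, hpP⟩
          show h₂ (h₁ w) = p
          rw [he₁, he₂]
        rw [← he] at hp
        exact hp.1
      have := Submodule.finrank_lt_finrank_of_lt hlt
      omega
  exact key _ W₀ hW₀ (hYW (Submodule.subset_span ⟨0, rfl⟩)) (hYW (Submodule.subset_span ⟨1, rfl⟩))
    (Nat.le_add_left _ _)

/-- A non-linear coefficient in dimension at least three. -/
theorem exists_nonlinear_three [FiniteDimensional K V] (hG : OverK K G) (h3 : 3 ≤ finrank K V)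
    (hr : (finrank F K).Prime) {a b c : ι} (hab : a ≠ b) (hac : a ≠ c) (hbc : b ≠ c) :
    ∃ φ : K →ₗ[F] K, (∃ k, φ k ≠ k * φ 1) ∧ (InC G e a c φ ∨ InC G e b c φ) := by
  classical
  have : FiniteDimensional F V := Module.Finite.trans K V
  obtain ⟨W, hW, haW, hbW, hWP⟩ := exists_small_line (e := e) hG h3 hr hab
  have hnot : ∀ y : V, ¬ W ≤ kl (F := F) K y := by
    intro y hle
    obtain ⟨s, hs⟩ := mem_kl.1 (hle haW)
    obtain ⟨t, ht⟩ := mem_kl.1 (hle hbW)
    have h1 := congrArg (e.coord a) hs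
    have h2 := congrArg (e.coord a) ht
    have h3 := congrArg (e.coord b) ht
    simp [Finsupp.single_apply, hab, hab.symm] at h1 h2 h3
    rcases h2 with h2 | h2
    · simp [h2] at h3
    · simp [h2] at h1
  have hμW : ∀ x ∈ W, e.coord c x = 0 := by
    intro x hx
    obtain ⟨s, t, rfl⟩ := Submodule.mem_span_pair.1 (hWP x hx)
    simp [Finsupp.single_apply, hac, hbc]
  obtain ⟨g, hg, v, hv, rfl⟩ := hW
  obtain ⟨u, hu⟩ : ∃ u, u ∉ K ∙ v := by
    by_contra hcon
    push Not at hcon
    have := Submodule.finrank_mono (show (⊤ : Submodule K V) ≤ K ∙ v from fun x _ => hcon x)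
    rw [finrank_top, finrank_span_singleton hv] at this
    omega
  obtain ⟨ν, hν, hνu⟩ := exists_functional _ hu
  have hνv : ν v = 0 := hν v (Submodule.mem_span_singleton_self v)
  let a₀ : V →ₗ[K] V := ν.smulRight v
  let A : V →ₗ[F] V := (g : V →ₗ[F] V) ∘ₗ a₀.restrictScalars F ∘ₗ (g.symm : V →ₗ[F] V)
  have hA : InG G A := (hG.sq a₀ fun x => by simp [a₀, hνv]).conj hg fun x => by simp [A]
  have hAW : ∀ x, A x ∈ (kl (F := F) K v).map (g : V →ₗ[F] V) := fun x =>
    ⟨_, smul_mem_kl _ _, rfl⟩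
  have hsurj : ∀ y ∈ (kl (F := F) K v).map (g : V →ₗ[F] V), ∃ x, A x = y := by
    rintro _ ⟨z, hz, rfl⟩
    obtain ⟨k, rfl⟩ := mem_kl.1 hz
    exact ⟨g (k • u), by simp [A, a₀, hνu]⟩
  have hAA : ∀ x, A (A x) = 0 := fun x => by simp [A, a₀, hνv]
  obtain ⟨ψ, hψW, ⟨k₀, hk₀⟩, hψ⟩ : ∃ ψ : K →ₗ[F] V,
      (∀ k, ψ k ∈ (kl (F := F) K v).map (g : V →ₗ[F] V)) ∧ (∃ k, ψ k ≠ k • ψ 1) ∧
        InG G (ψ ∘ₗ (e.coord c).restrictScalars F) := by
    by_cases hlin : ∀ x, e.coord c x = 0 → ∀ k : K, A (k • x) = k • A x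
    · have hker : ∀ x, e.coord c x = 0 → A x = 0 := by
        intro x hx
        by_contra hne
        have hle : kl (F := F) K (A x) ≤ (kl (F := F) K v).map (g : V →ₗ[F] V) := fun y hy => by
          obtain ⟨k, rfl⟩ := mem_kl.1 hy
          exact hlin x hx k ▸ hAW _
        exact hnot (A x) (Submodule.eq_of_le_of_finrank_eq hle
          (by rw [LinearEquiv.finrank_map_eq, finrank_kl hne, finrank_kl hv])).ge
      have hfac : ∀ x, A x = A (e.coord c x • e c) := fun x => by
        have h := hker (x - e.coord c x • e c) (by simp)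
        rwa [map_sub, sub_eq_zero] at h
      refine ⟨A ∘ₗ (LinearMap.toSpanSingleton K V (e c)).restrictScalars F, fun k => hAW _, ?_,
        hA.congr fun x => by simpa using hfac x⟩
      by_contra hcon
      push Not at hcon
      refine hnot (A (e c)) fun y hy => ?_
      obtain ⟨x, rfl⟩ := hsurj y hy
      rw [hfac x]
      have := hcon (e.coord c x)
      simp only [LinearMap.comp_apply, LinearMap.coe_restrictScalars,
        LinearMap.toSpanSingleton_apply, one_smul] at this
      rw [this]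
      exact smul_mem_kl _ _
    · push Not at hlin
      obtain ⟨x, hx, k, hk⟩ := hlin
      refine ⟨A ∘ₗ (LinearMap.toSpanSingleton K V x).restrictScalars F, fun k => hAW _,
        ⟨k, by simpa using hk⟩, InG.comm hA (hG.sq ((e.coord c).smulRight x) fun y => by
          simp only [LinearMap.smulRight_apply, map_smul, hx, smul_zero, zero_smul]) hAA ?_ ?_
          fun y => rfl⟩
      · intro y
        simp only [LinearMap.coe_restrictScalars, LinearMap.smulRight_apply, map_smul, hx,
          smul_zero, zero_smul]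
      · intro y
        simp only [LinearMap.coe_restrictScalars, LinearMap.smulRight_apply, hμW _ (hAW y),
          zero_smul]
  let φa : K →ₗ[F] K := (e.coord a).restrictScalars F ∘ₗ ψ
  let φb : K →ₗ[F] K := (e.coord b).restrictScalars F ∘ₗ ψ
  have hdec : ∀ k, ψ k = φa k • e a + φb k • e b := fun k => by
    obtain ⟨s, t, hst⟩ := Submodule.mem_span_pair.1 (hWP _ (hψW k))
    have h1 : φa k = s := by simp [φa, ← hst, Finsupp.single_apply, hab.symm]
    have h2 : φb k = t := by simp [φb, ← hst, Finsupp.single_apply, hab]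
    rw [h1, h2, hst]
  have hsq : ∀ x, (ψ ∘ₗ (e.coord c).restrictScalars F) ((ψ ∘ₗ (e.coord c).restrictScalars F) x) = 0 :=
    fun x => by
      simp only [LinearMap.comp_apply, LinearMap.coe_restrictScalars, hμW _ (hψW _), map_zero]
  have hb' : InC G e a c φb := InG.comm (InC.one (e := e) hG hab) hψ (lin_sq hab _ _) hsq
    (fun x => by simp [Finsupp.single_apply, hac]) fun x => by simp [φb]
  have ha' : InC G e b c φa := InG.comm (InC.one (e := e) hG hab.symm) hψ (lin_sq hab.symm _ _) hsq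
    (fun x => by simp [Finsupp.single_apply, hbc]) fun x => by simp [φa]
  by_cases hA' : φa k₀ = k₀ * φa 1
  · refine ⟨φb, ⟨k₀, fun hb => hk₀ ?_⟩, Or.inl hb'⟩
    rw [hdec k₀, hdec 1, hA', hb, smul_add, smul_smul, smul_smul]
  · exact ⟨φa, ⟨k₀, hA'⟩, Or.inr ha'⟩

end Finite

end Cfsg.Lib.Linear.ExtField
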