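import Cfsg.Agent.Lib.Linear.ExtField.Basic

/-!
# Transitivity on short independent tuples

The intersection of the images of lines through a small subspace is the subspace itself, and
the group is transitive on the independent tuples of length at most `[K : F]` in dimension two,
and on the independent pairs in general.
-/

set_option autoImplicit false

namespace Cfsg.Lib.Linear.ExtField

open Module

variable {F K V : Type*} [Field F] [Field K] [Algebra F K] [AddCommGroup V] [Module F V]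
  [Module K V] [IsScalarTower F K V] {G : Subgroup (V ≃ₗ[F] V)}

variable (K G)

/-- The intersection of the images of lines through a subspace. -/
def cl (Y : Submodule F V) : Submodule F V :=
  ⨅ W : {W : Submodule F V // IsLine K G W ∧ Y ≤ W}, W.1

/-- The pointwise stabiliser of `Y` is transitive off `Y`. -/
def Trans (Y : Submodule F V) : Prop :=
  ∀ x, x ∉ Y → ∀ x', x' ∉ Y → ∃ g ∈ G, (∀ y ∈ Y, g y = y) ∧ g x = x'

/-- The group is transitive on independent tuples of length `j`. -/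
def Reach (j : ℕ) : Prop :=
  ∀ a b : Fin j → V, LinearIndependent F a → LinearIndependent F b → ∃ g ∈ G, ∀ i, g (a i) = b i

/-- Subspaces of dimension `j` are intersections of images of lines. -/
def Flat (j : ℕ) : Prop := ∀ Y : Submodule F V, finrank F Y = j → cl K G Y = Y

variable {K G}

theorem le_cl (Y : Submodule F V) : Y ≤ cl K G Y := le_iInf fun W => W.2.2

theorem cl_le {Y W : Submodule F V} (hW : IsLine K G W) (h : Y ≤ W) : cl K G Y ≤ W :=
  iInf_le (fun W : {W : Submodule F V // IsLine K G W ∧ Y ≤ W} => W.1) ⟨W, hW, h⟩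

theorem cl_le_cl {Y Z : Submodule F V} (h : Y ≤ cl K G Z) : cl K G Y ≤ cl K G Z :=
  le_iInf fun W => cl_le W.2.1 (h.trans (cl_le W.2.1 W.2.2))

theorem map_cl_le (Y : Submodule F V) {g : V ≃ₗ[F] V} (hg : g ∈ G) :
    (cl K G Y).map (g : V →ₗ[F] V) ≤ cl K G (Y.map (g : V →ₗ[F] V)) := by
  refine le_iInf fun W => ?_
  have h1 : IsLine K G (W.1.map ((g⁻¹ : V ≃ₗ[F] V) : V →ₗ[F] V)) := W.2.1.map (G.inv_mem hg)
  have h2 : Y ≤ W.1.map ((g⁻¹ : V ≃ₗ[F] V) : V →ₗ[F] V) := fun y hy =>
    ⟨g y, W.2.2 ⟨y, hy, rfl⟩, g.symm_apply_apply y⟩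
  rintro _ ⟨x, hx, rfl⟩
  obtain ⟨w, hw, he⟩ := cl_le h1 h2 hx
  rw [← he]
  show g (g.symm w) ∈ W.1
  rwa [g.apply_symm_apply]

theorem exists_tuple (W : Submodule F V) [FiniteDimensional F W] {j : ℕ} (hj : j ≤ finrank F W) :
    ∃ a : Fin j → V, LinearIndependent F a ∧ ∀ i, a i ∈ W := by
  let b := Module.finBasis F W
  exact ⟨fun i => b (Fin.castLE hj i),
    (b.linearIndependent.map' W.subtype (Submodule.ker_subtype W)).comp _ (Fin.castLE_injective hj),
    fun i => (b _).2⟩

theorem fix_map {Y : Submodule F V} {g : V ≃ₗ[F] V} (h : ∀ y ∈ Y, g y = y) :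
    Y.map (g : V →ₗ[F] V) = Y := by
  ext x
  exact ⟨fun ⟨y, hy, e⟩ => by rw [← e]; exact (h y hy).symm ▸ hy, fun hx => ⟨x, hx, h x hx⟩⟩

variable [Finite K] [FiniteDimensional F K] [FiniteDimensional K V]

/-- Translations along lines through a flat connect everything off it. -/
theorem trans_of_cl (hG : OverK K G) (hr : 2 ≤ finrank F K) {Y : Submodule F V}
    (hcl : cl K G Y = Y) (hex : ∃ W, IsLine K G W ∧ Y ≤ W) (hlt : finrank F Y < finrank F K) :
    Trans G Y := by
  have : FiniteDimensional F V := Module.Finite.trans K V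
  obtain ⟨W₀, hW₀, hY₀⟩ := hex
  let R : V → V → Prop := fun x x' => ∃ g ∈ G, (∀ y ∈ Y, g y = y) ∧ g x = x'
  have hrefl : ∀ x, R x x := fun x => ⟨1, G.one_mem, fun y _ => rfl, rfl⟩
  have hsymm : ∀ x x', R x x' → R x' x := by
    rintro x x' ⟨g, hg, hfix, rfl⟩
    exact ⟨g⁻¹, G.inv_mem hg, fun y hy => (LinearEquiv.symm_apply_eq g).2 (hfix y hy).symm,
      g.symm_apply_apply x⟩
  have htrans : ∀ {x x' x''}, R x x' → R x' x'' → R x x'' := by
    rintro x x' x'' ⟨g, hg, hfix, rfl⟩ ⟨g', hg', hfix', rfl⟩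
    exact ⟨g' * g, G.mul_mem hg' hg, fun y hy => by
      show g' (g y) = y
      rw [hfix y hy, hfix' y hy], rfl⟩
  have tr : ∀ {W u w}, IsLine K G W → Y ≤ W → u ∉ W → w ∈ W → R u (u + w) := by
    intro W u w hW hYW hu hw
    obtain ⟨h, hh, hfix, he⟩ := hW.transl hG hu hw
    exact ⟨h, hh, fun y hy => hfix y (hYW hy), he⟩
  have sep : ∀ {x}, x ∉ Y → ∃ W, IsLine K G W ∧ Y ≤ W ∧ x ∉ W := by
    intro x hx
    by_contra h
    push Not at h
    refine hx (hcl ▸ ?_)
    exact Submodule.mem_iInf _ |>.2 fun W => h W.1 W.2.1 W.2.2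
  have hY0lt : Y < W₀ := lt_of_le_of_ne hY₀ fun e => by
    rw [e, hW₀.finrank_eq] at hlt
    omega
  have other : ∀ {W x}, IsLine K G W → x ∈ W₀ → x ∉ W → ∃ w ∈ W, w ∉ W₀ := by
    intro W x hW hx hxW
    by_contra h
    push Not at h
    exact hxW (Submodule.eq_of_le_of_finrank_eq h (by rw [hW.finrank_eq, hW₀.finrank_eq]) ▸ hx)
  have escape : ∀ x, x ∉ Y → ∃ x', x' ∉ W₀ ∧ R x x' := by
    intro x hx
    by_cases hx₀ : x ∈ W₀
    · obtain ⟨W, hW, hYW, hxW⟩ := sep hx
      obtain ⟨w, hw, hw₀⟩ := other hW hx₀ hxW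
      exact ⟨x + w, fun h => hw₀ (by simpa using W₀.sub_mem h hx₀), tr hW hYW hxW hw⟩
    · exact ⟨x, hx₀, hrefl x⟩
  let H₀ : Set V := {h | ∀ u, u ∉ W₀ → u + h ∉ W₀ → R u (u + h)}
  have hzero : (0 : V) ∈ H₀ := fun u _ _ => by rw [add_zero]; exact hrefl u
  have hgen : ∀ {W}, IsLine K G W → Y ≤ W → ∀ h ∈ W, h ∈ H₀ := by
    intro W hW hYW h hh u hu huh
    by_cases huW : u ∈ W
    · have huhW := W.add_mem huW hh
      obtain ⟨w₀, hw₀, hw₀W⟩ : ∃ w₀ ∈ W₀, w₀ ∉ W := by
        by_contra hcon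
        push Not at hcon
        exact hu ((Submodule.eq_of_le_of_finrank_eq hcon
          (by rw [hW.finrank_eq, hW₀.finrank_eq])).symm ▸ huW)
      have h1 : R u (u + w₀) := tr hW₀ hY₀ hu hw₀
      have h2 : R (u + w₀) (u + w₀ + h) :=
        tr hW hYW (fun hm => hw₀W (by simpa using W.sub_mem hm huW)) hh
      have h3 : R (u + w₀ + h) (u + w₀ + h + -w₀) := tr hW₀ hY₀
        (fun hm => huh (by simpa [add_right_comm] using W₀.sub_mem hm hw₀)) (W₀.neg_mem hw₀)
      rw [show u + w₀ + h + -w₀ = u + h by abel] at h3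
      exact htrans (htrans h1 h2) h3
    · exact tr hW hYW huW hh
  let 𝒲 := {W : Submodule F V // IsLine K G W ∧ Y ≤ W}
  have hsum : (⨆ W : 𝒲, W.1) = ⊤ := by
    have hle : W₀ ≤ ⨆ W : 𝒲, W.1 := le_iSup (fun W : 𝒲 => W.1) ⟨W₀, hW₀, hY₀⟩
    refine hW₀.invariant_eq_top hG hr (lt_of_le_of_ne hle fun e => ?_) fun g hg hfix x hx => ?_
    · obtain ⟨x, hx₀, hxY⟩ := SetLike.exists_of_lt hY0lt
      obtain ⟨W, hW, hYW, hxW⟩ := sep hxY
      obtain ⟨w, hw, hw₀⟩ := other hW hx₀ hxW
      exact hw₀ (e ▸ le_iSup (fun W : 𝒲 => W.1) ⟨W, hW, hYW⟩ hw)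
    · have hle' : (⨆ W : 𝒲, W.1).map (g : V →ₗ[F] V) ≤ ⨆ W : 𝒲, W.1 := by
        rw [Submodule.map_iSup]
        refine iSup_le fun W => le_iSup (fun W : 𝒲 => W.1) ⟨_, W.2.1.map hg, ?_⟩
        exact fun y hy => ⟨y, W.2.2 hy, hfix y (hY₀ hy)⟩
      exact hle' ⟨x, hx, rfl⟩
  have hall : ∀ v : V, v ∈ H₀ := by
    intro v
    have hv : v ∈ ⨆ W : 𝒲, W.1 := hsum ▸ Submodule.mem_top
    suffices ∀ h ∈ H₀, h + v ∈ H₀ by simpa using this 0 hzero
    induction hv using Submodule.iSup_induction' with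
    | zero => intro h hh; rwa [add_zero]
    | add a b _ _ iha ihb => intro h hh; rw [← add_assoc]; exact ihb _ (iha h hh)
    | mem W h' hh' =>
      intro h hh u hu huh
      rw [← add_assoc] at huh ⊢
      have hh'H := hgen W.2.1 W.2.2 h' hh'
      by_cases h1 : u + h ∈ W₀
      · by_cases h2 : u + h' ∈ W₀
        · set z := h - h'
          have hz : z ∈ W₀ := by simpa [z] using W₀.sub_mem h1 h2
          have h3 : u + (h' + h') ∉ W₀ := fun hm => huh (by
            have := W₀.add_mem hm hz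
            simp only [z] at this
            convert this using 1
            abel)
          have h4 := hgen W.2.1 W.2.2 _ (W.1.add_mem hh' hh') u hu h3
          have h5 := tr hW₀ hY₀ h3 hz
          rw [show u + (h' + h') + z = u + h + h' by simp only [z]; abel] at h5
          exact htrans h4 h5
        · have h3 := hh (u + h') h2 (by rwa [add_right_comm] at huh)
          rw [add_right_comm] at h3
          exact htrans (hh'H u hu h2) h3
      · exact htrans (hh u hu h1) (hh'H (u + h) h1 huh)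
  intro x hx x' hx'
  obtain ⟨x₁, hx₁, h1⟩ := escape x hx
  obtain ⟨x₂, hx₂, h2⟩ := escape x' hx'
  have h3 := hall (x₂ - x₁) x₁ hx₁ (by rwa [add_sub_cancel])
  rw [add_sub_cancel] at h3
  exact htrans (htrans h1 h3) (hsymm _ _ h2)

theorem reach_zero : Reach G 0 := fun _ _ _ _ => ⟨1, G.one_mem, fun i => i.elim0⟩

theorem flat_zero (hm : 2 ≤ finrank K V) : Flat K G 0 := by
  intro Y hY
  have : FiniteDimensional F V := Module.Finite.trans K V
  rw [Submodule.finrank_eq_zero] at hY
  subst hY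
  obtain ⟨u, hu, hu0⟩ : ∃ u : V, u ∈ (⊤ : Submodule K V) ∧ u ≠ 0 :=
    Submodule.exists_mem_ne_zero_of_ne_bot fun h => by
      have := finrank_top K V
      rw [h, finrank_bot] at this
      omega
  obtain ⟨v, hv⟩ : ∃ v, v ∉ K ∙ u := by
    by_contra h
    push Not at h
    have := Submodule.finrank_mono (show (⊤ : Submodule K V) ≤ K ∙ u from fun x _ => h x)
    rw [finrank_top, finrank_span_singleton hu0] at this
    omega
  have hv0 : v ≠ 0 := fun e => hv (e ▸ Submodule.zero_mem _)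
  refine eq_bot_iff.2 fun x hx => ?_
  obtain ⟨a, rfl⟩ := mem_kl.1 (cl_le (isLine_kl (K := K) hu0) bot_le hx)
  obtain ⟨b, hb⟩ := mem_kl.1 (cl_le (isLine_kl (K := K) hv0) bot_le hx)
  rw [Submodule.mem_bot]
  by_contra hne
  have hb0 : b ≠ 0 := fun e => hne (by rw [← hb, e, zero_smul])
  refine hv (Submodule.mem_span_singleton.2 ⟨b⁻¹ * a, ?_⟩)
  rw [mul_smul, ← hb, smul_smul, inv_mul_cancel₀ hb0, one_smul]

theorem exists_line_of_reach (hm : 2 ≤ finrank K V) {j : ℕ} (hj : j ≤ finrank F K)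
    (hR : Reach G j) {Y : Submodule F V} (hY : finrank F Y = j) : ∃ W, IsLine K G W ∧ Y ≤ W := by
  have : FiniteDimensional F V := Module.Finite.trans K V
  obtain ⟨u, -, hu0⟩ : ∃ u : V, u ∈ (⊤ : Submodule K V) ∧ u ≠ 0 :=
    Submodule.exists_mem_ne_zero_of_ne_bot fun h => by
      have := finrank_top K V
      rw [h, finrank_bot] at this
      omega
  obtain ⟨a, ha, haW⟩ := exists_tuple (kl (F := F) K u) (j := j) (by rwa [finrank_kl hu0])
  obtain ⟨b, hb, hbY⟩ := exists_tuple Y (j := j) hY.ge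
  obtain ⟨g, hg, he⟩ := hR a b ha hb
  refine ⟨_, (isLine_kl hu0).map hg, ?_⟩
  have hspan : Submodule.span F (Set.range b) = Y :=
    Submodule.eq_of_le_of_finrank_eq (Submodule.span_le.2 (by rintro _ ⟨i, rfl⟩; exact hbY i))
      (by rw [finrank_span_eq_card hb, Fintype.card_fin, hY])
  rw [← hspan, Submodule.span_le]
  rintro _ ⟨i, rfl⟩
  exact ⟨a i, haW i, he i⟩

theorem trans_of_flat (hG : OverK K G) (hm : 2 ≤ finrank K V) (hr : 2 ≤ finrank F K) {j : ℕ}
    (hj : j < finrank F K) (hR : Reach G j) (hF : Flat K G j) {Y : Submodule F V}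
    (hY : finrank F Y = j) : Trans G Y :=
  trans_of_cl hG hr (hF Y hY) (exists_line_of_reach hm hj.le hR hY) (hY ▸ hj)

theorem reach_succ (hG : OverK K G) (hm : 2 ≤ finrank K V) (hr : 2 ≤ finrank F K) {j : ℕ}
    (hj : j < finrank F K) (hR : Reach G j) (hF : Flat K G j) : Reach G (j + 1) := by
  intro a b ha hb
  rw [linearIndependent_fin_succ'] at ha hb
  obtain ⟨g, hg, hgab⟩ := hR _ _ ha.1 hb.1
  set Y := Submodule.span F (Set.range (Fin.init b)) with hY
  have hYj : finrank F Y = j := by rw [hY, finrank_span_eq_card hb.1, Fintype.card_fin]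
  have hx : g (a (Fin.last j)) ∉ Y := by
    intro h
    refine ha.2 ?_
    have hmap : (Submodule.span F (Set.range (Fin.init a))).map (g : V →ₗ[F] V) = Y := by
      rw [Submodule.map_span, ← Set.range_comp]
      exact congrArg _ (congrArg Set.range (funext fun i => hgab i))
    rw [← hmap] at h
    obtain ⟨z, hz, e⟩ := h
    exact g.injective e ▸ hz
  obtain ⟨h, hh, hfix, he⟩ := trans_of_flat hG hm hr hj hR hF hYj _ hx _ hb.2
  refine ⟨h * g, G.mul_mem hh hg, fun i => ?_⟩
  show h (g (a i)) = b i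
  induction i using Fin.lastCases with
  | last => exact he
  | cast i =>
    rw [show g (a i.castSucc) = b i.castSucc from hgab i]
    exact hfix _ (Submodule.subset_span ⟨i, rfl⟩)

theorem sub_dvd_arith {q d j s : ℕ} (hq : 2 ≤ q) (hjd : j ≤ d) (hjs : j ≤ s)
    (h : q ^ d - q ^ j ∣ q ^ s - q ^ j) : d - j ∣ s - j := by
  have e : ∀ t, j ≤ t → q ^ t - q ^ j = q ^ j * (q ^ (t - j) - 1) := fun t ht => by
    rw [Nat.mul_sub, mul_one, ← pow_add, Nat.add_sub_cancel' ht]
  rw [e d hjd, e s hjs] at h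
  have h1 := Nat.gcd_eq_left (Nat.dvd_of_mul_dvd_mul_left (Nat.pow_pos (by omega)) h)
  rw [Nat.pow_sub_one_gcd_pow_sub_one] at h1
  have h2 : q ^ Nat.gcd (d - j) (s - j) = q ^ (d - j) := by
    have := Nat.one_le_pow (Nat.gcd (d - j) (s - j)) q (by omega)
    have := Nat.one_le_pow (d - j) q (by omega)
    omega
  exact Nat.gcd_eq_left_iff_dvd.1 (Nat.pow_right_injective hq h2)

/-- The intersection property passes to the next dimension. -/
theorem flat_succ (hG : OverK K G) (hm : 2 ≤ finrank K V) (hr : (finrank F K).Prime) {j : ℕ}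
    (hj : j + 1 < finrank F K) (hcase : finrank K V = 2 ∨ j = 0) (hR : Reach G j)
    (hR' : Reach G (j + 1)) (hF : Flat K G j) : Flat K G (j + 1) := by
  classical
  have hr2 := hr.two_le
  have : FiniteDimensional F V := Module.Finite.trans K V
  have : Finite F := Finite.of_injective _ (algebraMap F K).injective
  have : Finite V := Module.finite_of_finite K
  have : Fintype V := Fintype.ofFinite V
  intro Y' hY'
  set c := Module.finBasisOfFinrankEq F Y' hY'
  set v : Fin (j + 1) → V := fun i => (c i : V) with hv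
  have hvind : LinearIndependent F v := c.linearIndependent.map' Y'.subtype (Submodule.ker_subtype Y')
  obtain ⟨h0, hlast⟩ := linearIndependent_fin_succ'.1 hvind
  set Y := Submodule.span F (Set.range (Fin.init v)) with hY
  have hYj : finrank F Y = j := by rw [hY, finrank_span_eq_card h0, Fintype.card_fin]
  have htr : Trans G Y := trans_of_flat hG hm hr2 (by omega) hR hF hYj
  set D : V → Submodule F V := fun x => cl K G (Y ⊔ F ∙ x) with hD
  have hYD : ∀ x, Y ≤ D x := fun x => le_sup_left.trans (le_cl _)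
  have hxD : ∀ x, x ∈ D x := fun x =>
    le_cl _ (le_sup_right (a := Y) (Submodule.mem_span_singleton_self x))
  have hdim1 : ∀ x, x ∉ Y → finrank F ↥(Y ⊔ F ∙ x) = j + 1 := by
    intro x hx
    have hx0 : x ≠ 0 := fun e => hx (e ▸ Y.zero_mem)
    have := Submodule.finrank_sup_add_finrank_inf_eq Y (F ∙ x)
    rw [hYj, finrank_span_singleton hx0,
      show Y ⊓ F ∙ x = ⊥ from eq_bot_iff.2 fun z hz => by
        obtain ⟨t, rfl⟩ := Submodule.mem_span_singleton.1 hz.2
        rw [Submodule.mem_bot]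
        by_contra hne
        have ht : t ≠ 0 := fun e => hne (by rw [e, zero_smul])
        exact hx (by simpa [smul_smul, inv_mul_cancel₀ ht] using Y.smul_mem t⁻¹ hz.1),
      finrank_bot] at this
    omega
  have hDle : ∀ {x x'}, x ∉ Y → x' ∉ Y → finrank F (D x) ≤ finrank F (D x') := by
    intro x x' hx hx'
    obtain ⟨g, hg, hfix, he⟩ := htr x hx x' hx'
    have h1 := map_cl_le (K := K) (Y ⊔ F ∙ x) hg
    rw [Submodule.map_sup, fix_map hfix, Submodule.map_span, Set.image_singleton,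
      LinearEquiv.coe_coe, he] at h1
    have h2 := Submodule.finrank_mono h1
    rwa [LinearEquiv.finrank_map_eq] at h2
  set x₀ := v (Fin.last j)
  set d := finrank F (D x₀)
  have hDeq : ∀ x, x ∉ Y → finrank F (D x) = d := fun x hx =>
    le_antisymm (hDle hx hlast) (hDle hlast hx)
  have hclass : ∀ x x', x ∉ Y → x' ∉ Y → x' ∈ D x → D x' = D x := by
    intro x x' hx hx' hm'
    refine Submodule.eq_of_le_of_finrank_eq (cl_le_cl (sup_le (hYD x) ?_)) ?_
    · rwa [Submodule.span_singleton_le_iff_mem]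
    · rw [hDeq x hx, hDeq x' hx']
  set q := Nat.card F
  have hq : 2 ≤ q := Finite.one_lt_card
  have hcount : ∀ T : Submodule F V, Y ≤ T → (∀ x ∈ T, x ∉ Y → D x ≤ T) →
      q ^ d - q ^ j ∣ q ^ finrank F T - q ^ j := by
    intro T hYT hT
    have hcard : ∀ S : Submodule F V, Y ≤ S →
        (Finset.univ.filter fun x => x ∈ S ∧ x ∉ Y).card = q ^ finrank F S - q ^ j := by
      intro S hS
      have hN : ∀ U : Submodule F V, (Finset.univ.filter fun x => x ∈ U).card = q ^ finrank F U := by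
        intro U
        have h1 := Module.natCard_eq_pow_finrank (K := F) (V := U)
        rw [← h1, Nat.card_eq_fintype_card, Fintype.card_subtype]
      rw [← hN S, ← hYj, ← hN Y, ← Finset.card_sdiff_of_subset]
      · congr 1
        ext x
        simp
      · intro x hx
        simp only [Finset.mem_filter, Finset.mem_univ, true_and] at hx ⊢
        exact hS hx
    rw [← hcard T hYT, Finset.card_eq_sum_card_fiberwise
      (f := D) (t := (Finset.univ.filter fun x => x ∈ T ∧ x ∉ Y).image D)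
      (fun x hx => Finset.mem_image_of_mem D hx)]
    refine Finset.dvd_sum fun W hW => ?_
    obtain ⟨x, hx, rfl⟩ := Finset.mem_image.1 hW
    simp only [Finset.mem_filter, Finset.mem_univ, true_and] at hx
    rw [← hDeq x hx.2, ← hcard (D x) (hYD x)]
    refine dvd_of_eq (congrArg Finset.card ?_)
    ext z
    simp only [Finset.mem_filter, Finset.mem_univ, true_and]
    exact ⟨fun h => ⟨⟨hT x hx.1 hx.2 h.1, h.2⟩, hclass x z hx.2 h.2 h.1⟩,
      fun h => ⟨h.2 ▸ hxD z, h.1.2⟩⟩
  have hYY' : Y ⊔ F ∙ x₀ = Y' := by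
    refine Submodule.eq_of_le_of_finrank_eq (sup_le ?_ ?_) (by rw [hdim1 x₀ hlast, hY'])
    · rw [hY, Submodule.span_le]
      rintro _ ⟨i, rfl⟩
      exact (c _).2
    · rw [Submodule.span_singleton_le_iff_mem]
      exact (c _).2
  obtain ⟨W, hW, hYW⟩ := exists_line_of_reach hm hj.le hR' hY'
  have hd1 : j + 1 ≤ d := hdim1 x₀ hlast ▸ Submodule.finrank_mono (le_cl _)
  have hdr : d ≤ finrank F K := by
    rw [← hW.finrank_eq]
    exact Submodule.finrank_mono (cl_le hW (hYY' ▸ hYW))
  have hV : d - j ∣ finrank F V - j := by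
    have := hcount ⊤ le_top fun _ _ _ => le_top
    rw [finrank_top] at this
    exact sub_dvd_arith hq (by omega) (hYj ▸ Submodule.finrank_le Y) this
  have hK : d - j ∣ finrank F K - j := by
    have hYW0 : Y ≤ W := (hYY' ▸ le_sup_left : Y ≤ Y').trans hYW
    have := hcount W hYW0 fun x hx _ =>
      cl_le hW (sup_le hYW0 ((Submodule.span_singleton_le_iff_mem x W).2 hx))
    rw [hW.finrank_eq] at this
    exact sub_dvd_arith hq (by omega) (by omega) this
  have hn : finrank F V = finrank F K * finrank K V := (Module.finrank_mul_finrank F K V).symm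
  have hdvd : d - j ∣ finrank F K := by
    rcases hcase with h2 | rfl
    · rw [hn, h2] at hV
      have := Nat.dvd_sub hV hK
      rwa [show finrank F K * 2 - j - (finrank F K - j) = finrank F K by omega] at this
    · simpa using hK
  rcases (Nat.dvd_prime hr).1 hdvd with h1 | h1
  · show cl K G Y' = Y'
    refine (Submodule.eq_of_le_of_finrank_eq (le_cl Y') ?_).symm
    rw [hY', ← hYY']
    show j + 1 = d
    omega
  · exfalso
    have hj0 : j = 0 := by omega
    have hYbot : Y = ⊥ := Submodule.finrank_eq_zero.1 (hj0 ▸ hYj)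
    have huniq : ∀ x : V, x ≠ 0 → ∀ W, IsLine K G W → x ∈ W → W = D x := by
      intro x hx W hW hxW
      refine (Submodule.eq_of_le_of_finrank_eq (cl_le hW ?_) ?_).symm
      · rw [hYbot, bot_sup_eq, Submodule.span_singleton_le_iff_mem]
        exact hxW
      · rw [hW.finrank_eq]
        show finrank F (D x) = finrank F K
        have := hDeq x (by rw [hYbot, Submodule.mem_bot]; exact hx)
        omega
    obtain ⟨g, hg, u, k, hk⟩ := hG.moved
    refine hk ?_
    have hu : u ≠ 0 := fun e => by simp [e] at hk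
    have hgu : g u ≠ 0 := by simpa using hu
    have h2 : (kl (F := F) K u).map (g : V →ₗ[F] V) = kl K (g u) :=
      (huniq _ hgu _ ((isLine_kl hu).map hg) ⟨u, self_mem_kl u, rfl⟩).trans
        (huniq _ hgu _ (isLine_kl hgu) (self_mem_kl _)).symm
    have h3 : g (k • u) ∈ (kl (F := F) K u).map (g : V →ₗ[F] V) := ⟨_, smul_mem_kl k u, rfl⟩
    rw [h2] at h3
    exact h3

/-- Transitivity on independent tuples. -/
theorem reach_flat (hG : OverK K G) (hm : 2 ≤ finrank K V) (hr : (finrank F K).Prime) :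
    ∀ j, j ≤ finrank F K → (finrank K V = 2 ∨ j ≤ 2) →
      Reach G j ∧ (j < finrank F K → (finrank K V = 2 ∨ j ≤ 1) → Flat K G j)
  | 0, _, _ => ⟨reach_zero, fun _ _ => flat_zero hm⟩
  | j + 1, hj, hc => by
    obtain ⟨hR, hF⟩ := reach_flat hG hm hr j (by omega) (by omega)
    have hF' := hF (by omega) (by omega)
    have hR' := reach_succ hG hm hr.two_le (by omega) hR hF'
    exact ⟨hR', fun hlt hc' => flat_succ hG hm hr hlt (by omega) hR hR' hF'⟩

end Cfsg.Lib.Linear.ExtField
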