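import Cfsg.Agent.Lib.Linear.ExtField.Elem

/-!
# The four dimensional space over the field with two elements

A non-linear coefficient when the field of four elements acts on a plane.
-/

set_option autoImplicit false

namespace Cfsg.Lib.Linear.ExtField

open Module

variable {F K V : Type*} [Field F] [Field K] [Algebra F K] [AddCommGroup V] [Module F V]
  [Module K V] [IsScalarTower F K V] {G : Subgroup (V ≃ₗ[F] V)} {ι : Type*} {e : Basis ι K V}

section Matrices

local notation "M4" => Matrix (Fin 4) (Fin 4) (ZMod 2)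

/-- The matrices of the words. -/
def mU (a b : ZMod 2) : M4 := !![1, 0, a, b; 0, 1, b, a + b; 0, 0, 1, 0; 0, 0, 0, 1]

/-- The lower transvection with coefficient `1 + θ`. -/
def mL : M4 := !![1, 0, 0, 0; 0, 1, 0, 0; 1, 1, 1, 0; 1, 0, 0, 1]

/-- The dilatation by `1 + θ`. -/
def mD : M4 := !![1, 1, 0, 0; 1, 0, 0, 0; 0, 0, 1, 0; 0, 0, 0, 1]

/-- The conjugate transvection. -/
def mB (β : ZMod 2) : M4 := !![1, 0, 0, 1; 0, 1, 0, 0; 0, 1, 1, β; 0, 0, 0, 1]

theorem word_zero : mU 1 0 * mB 0 * mU 0 1 * mD * mB 0 * mU 1 0 * mD =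
    !![1, 0, 0, 0; 0, 1, 0, 0; 1, 1, 1, 0; 0, 0, 0, 1] := by decide

theorem word_one : mU 0 1 * mL * mD * mB 1 * mU 1 1 * mL * mB 1 =
    !![1, 0, 0, 0; 0, 1, 0, 0; 0, 0, 1, 0; 0, 1, 0, 1] := by decide

end Matrices

theorem eq_zero_or_one [Finite F] (h : Nat.card F = 2) (c : F) : c = 0 ∨ c = 1 := by
  have := Fintype.ofFinite F
  rw [Nat.card_eq_fintype_card] at h
  rcases eq_or_ne c 0 with hc | hc
  · exact Or.inl hc
  · have := FiniteField.pow_card_sub_one_eq_one c hc
    rw [h] at this
    exact Or.inr (by simpa using this)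

variable [Finite K] [FiniteDimensional F K] [FiniteDimensional K V]

/-- A non-linear coefficient for four points over two. -/
theorem four_nonlinear (hG : OverK K G) (hm : finrank K V = 2) (hr : finrank F K = 2)
    (hK4 : Nat.card K = 4) {i j : ι} (hij : i ≠ j)
    (hpair : ∀ x, x = e.coord i x • e i + e.coord j x • e j) :
    ∃ φ : K →ₗ[F] K, (∃ k, φ k ≠ k * φ 1) ∧ InC G e j i φ := by
  classical
  have : FiniteDimensional F V := Module.Finite.trans K V
  have : Finite F := Finite.of_injective _ (algebraMap F K).injective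
  have : Fintype K := Fintype.ofFinite K
  have : Fintype F := Fintype.ofFinite F
  have hF : Nat.card F = 2 := by
    have h := Module.natCard_eq_pow_finrank (K := F) (V := K)
    rw [hK4, hr] at h
    exact (Nat.pow_left_injective (by norm_num) (by rw [← h]; norm_num : (Nat.card F) ^ 2 = 2 ^ 2))
  haveI hchar : CharP F 2 := charP_of_card_eq_prime (by rw [← Nat.card_eq_fintype_card, hF])
  haveI : CharP K 2 := (RingHom.charP_iff (algebraMap F K) (algebraMap F K).injective 2).1 hchar
  obtain ⟨θ, hθ⟩ : ∃ θ : K, θ ∉ Set.range (algebraMap F K) := by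
    by_contra hc
    push Not at hc
    have := Nat.card_le_card_of_surjective _ hc
    omega
  have hθ0 : θ ≠ 0 := fun h => hθ ⟨0, by rw [map_zero, h]⟩
  have hθ1 : θ ≠ 1 := fun h => hθ ⟨1, by rw [map_one, h]⟩
  have hθ2 : θ * θ = θ + 1 := by
    have h := FiniteField.pow_card θ
    rw [← Nat.card_eq_fintype_card, hK4] at h
    have : θ * (θ - 1) * (θ * θ + θ + 1) = 0 := by linear_combination h
    rw [mul_eq_zero, mul_eq_zero, sub_eq_zero] at this
    rcases this with (h1 | h1) | h1
    · exact absurd h1 hθ0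
    · exact absurd h1 hθ1
    · linear_combination h1 - (θ + 1) * (CharTwo.two_eq_zero : (2 : K) = 0)
  have hindep : ∀ a b : F, algebraMap F K a + algebraMap F K b * θ = 0 → a = 0 ∧ b = 0 := by
    intro a b hab
    rcases eq_or_ne b 0 with hb | hb
    · subst hb
      simpa using hab
    · refine absurd ⟨-(a / b), ?_⟩ hθ
      have hb' : algebraMap F K b ≠ 0 := by simpa using hb
      rw [map_neg, map_div₀]
      field_simp
      linear_combination -hab
  let bK : Basis (Fin 2) F K := basisOfLinearIndependentOfCardEqFinrank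
    (b := ![(1 : K), θ]) (by
      rw [LinearIndependent.pair_iff]
      intro a b hab
      rw [Algebra.smul_def, Algebra.smul_def, mul_one] at hab
      exact hindep a b hab) (by rw [Fintype.card_fin, hr])
  have hexp : ∀ k : K, ∃ a b : F, k = algebraMap F K a + algebraMap F K b * θ := fun k =>
    ⟨bK.repr k 0, bK.repr k 1, by
      have h := (bK.sum_repr k).symm
      rw [Fin.sum_univ_two, coe_basisOfLinearIndependentOfCardEqFinrank] at h
      simpa [Algebra.smul_def] using h⟩
  set p := e i with hp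
  set t := θ • e i with ht
  set u := e j with hu
  set v := θ • e j with hv
  have hspan : ∀ x : V, ∃ a b c d : F, x = a • p + b • t + c • u + d • v := by
    intro x
    obtain ⟨a, b, hab⟩ := hexp (e.coord i x)
    obtain ⟨c, d, hcd⟩ := hexp (e.coord j x)
    refine ⟨a, b, c, d, ?_⟩
    conv_lhs => rw [hpair x, hab, hcd]
    simp only [hp, ht, hu, hv, add_smul, mul_smul, algebraMap_smul]
    abel
  let bV : Basis (Fin 4) F V := basisOfTopLeSpanOfCardEqFinrank ![p, t, u, v] (by
    intro x _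
    obtain ⟨a, b, c, d, rfl⟩ := hspan x
    refine Submodule.add_mem _ (Submodule.add_mem _ (Submodule.add_mem _ ?_ ?_) ?_) ?_ <;>
      refine Submodule.smul_mem _ _ (Submodule.subset_span ?_)
    exacts [⟨0, rfl⟩, ⟨1, rfl⟩, ⟨2, rfl⟩, ⟨3, rfl⟩])
    (by rw [Fintype.card_fin, ← Module.finrank_mul_finrank F K V, hr, hm])
  have hbV : ⇑bV = ![p, t, u, v] := coe_basisOfTopLeSpanOfCardEqFinrank ..
  let ρ : ZMod 2 →+* F := ZMod.castHom dvd_rfl F
  let Φ : Matrix (Fin 4) (Fin 4) (ZMod 2) → V →ₗ[F] V := fun M => Matrix.toLin bV bV (M.map ρ)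
  let InM : Matrix (Fin 4) (Fin 4) (ZMod 2) → Prop := fun M => ∃ g ∈ G, ∀ x, g x = Φ M x
  have hmul : ∀ {M N}, InM M → InM N → InM (M * N) := by
    rintro M N ⟨g, hg, hgM⟩ ⟨g', hg', hgN⟩
    refine ⟨g * g', G.mul_mem hg hg', fun x => ?_⟩
    show g (g' x) = _
    rw [hgM, hgN]
    simp only [Φ, Matrix.map_mul]
    rw [Matrix.toLin_mul bV bV bV]
    rfl
  have hgen : ∀ (a : V →ₗ[F] V) (M : Matrix (Fin 4) (Fin 4) (ZMod 2)), InG G a →
      (∀ l, bV l + a (bV l) = ∑ k, ρ (M k l) • bV k) → InM M := by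
    rintro a M ⟨g, hg, hga⟩ hM
    refine ⟨g, hg, fun x => ?_⟩
    have : (g : V →ₗ[F] V) = Φ M := bV.ext fun l => by
      show g (bV l) = Matrix.toLin bV bV (M.map ρ) (bV l)
      rw [hga, hM, Matrix.toLin_self]
      rfl
    exact DFunLike.congr_fun this x
  -- known images of the four vectors
  have hU : ∀ a b : ZMod 2, InM (mU a b) := by
    intro a b
    refine hgen _ _ (InC.scalar (e := e) hG hij (algebraMap F K (ρ a) + algebraMap F K (ρ b) * θ)) ?_
    intro l
    fin_cases l <;>
      simp [hbV, Fin.sum_univ_four, mU, hp, ht, hu, hv, Finsupp.single_apply, hij, hij.symm,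
        add_smul, mul_smul, algebraMap_smul, add_mul, mul_assoc, hθ2, mul_add] <;> abel
  have hL : InM mL := by
    refine hgen _ _ (InC.scalar (e := e) hG hij.symm (1 + θ)) ?_
    intro l
    fin_cases l <;>
      simp [hbV, Fin.sum_univ_four, mL, hp, ht, hu, hv, Finsupp.single_apply, hij, hij.symm,
        add_smul, add_mul, hθ2]
    · abel
    · rw [show θ • e j + (θ • e j + e j) = (θ • e j + θ • e j) + e j by abel,
        ← add_smul θ θ (e j), CharTwo.add_self_eq_zero, zero_smul, zero_add]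
  have hD : InM mD := by
    have hnorm : Algebra.norm F (1 + θ) = 1 := by
      rcases eq_zero_or_one hF (Algebra.norm F (1 + θ)) with h | h
      · rw [Algebra.norm_eq_zero_iff, add_comm, add_eq_zero_iff_eq_neg, CharTwo.neg_eq] at h
        exact absurd h hθ1
      · exact h
    refine hgen _ _ (hG.dil (e.coord i) p (1 + θ) (by simp [hp]) hnorm) ?_
    intro l
    fin_cases l <;>
      simp [hbV, Fin.sum_univ_four, mD, hp, ht, hu, hv, Finsupp.single_apply, hij, hij.symm,
        smul_smul, hθ2]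
    rw [← add_smul, ← add_assoc, CharTwo.add_self_eq_zero, zero_add, one_smul]
  -- the element `g`
  obtain ⟨hR, -⟩ := reach_flat hG hm.ge (by rw [hr]; exact Nat.prime_two) 2 hr.ge (Or.inl hm)
  have hind : LinearIndependent F ![p, t] ∧ LinearIndependent F ![p, u] := by
    constructor <;> rw [LinearIndependent.pair_iff] <;> intro a b hab
    · have h1 := congrArg (e.coord i) hab
      simp [hp, ht, Finsupp.single_apply, ← algebraMap_smul K] at h1
      exact hindep a b h1
    · have h1 := congrArg (e.coord i) hab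
      have h2 := congrArg (e.coord j) hab
      simp [hp, hu, Finsupp.single_apply, ← algebraMap_smul K, hij, hij.symm] at h1 h2
      exact ⟨h1, h2⟩
  obtain ⟨g₀, hg₀, hg₀e⟩ := hR _ _ hind.1 hind.2
  have hg₀p : g₀ p = p := hg₀e 0
  have hg₀t : g₀ t = u := hg₀e 1
  set z := g₀.symm t
  have hz : e.coord j z ≠ 0 := by
    intro h0
    have h1 := hpair z
    rw [h0, zero_smul, add_zero] at h1
    obtain ⟨a, b, hab⟩ := hexp (e.coord i z)
    rw [hab, add_smul, mul_smul, algebraMap_smul, algebraMap_smul] at h1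
    have h2 : t = a • p + b • u := by
      rw [← hg₀p, ← hg₀t, ← map_smul g₀, ← map_smul g₀, ← map_add g₀]
      have : g₀ z = g₀ (a • p + b • t) := congrArg g₀ h1
      rwa [g₀.apply_symm_apply] at this
    have h3 := congrArg (e.coord i) h2
    simp [hp, ht, hu, Finsupp.single_apply, ← algebraMap_smul K, hij, hij.symm] at h3
    exact hθ ⟨a, h3.symm⟩
  -- move `v` to `z` fixing the line of `e i`
  set s := e.coord j z * θ⁻¹
  have hs : Algebra.norm F s = 1 := by
    rcases eq_zero_or_one hF (Algebra.norm F s) with h | h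
    · rw [Algebra.norm_eq_zero_iff] at h
      exact absurd h (mul_ne_zero hz (inv_ne_zero hθ0))
    · exact h
  obtain ⟨h₁, hh₁, hh₁a⟩ := hG.dil (e.coord j) (e j) s (by simp) hs
  have hu' : e.coord j z • e j ∉ kl (F := F) K p := by
    intro hm'
    obtain ⟨k, hk⟩ := mem_kl.1 hm'
    have := congrArg (e.coord j) hk
    simp [hp, Finsupp.single_apply, hij] at this
    exact hz (by simpa using this.symm)
  obtain ⟨h₂, hh₂, hfix₂, hh₂e⟩ := (isLine_kl (G := G) (e.ne_zero i)).transl hG
    (W := kl (F := F) K p) hu' (smul_mem_kl (e.coord i z) p)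
  set g := g₀ * (h₂ * h₁) with hgdef
  have hg : g ∈ G := G.mul_mem hg₀ (G.mul_mem hh₂ hh₁)
  have hline : ∀ k : K, g (k • p) = g₀ (k • p) := fun k => by
    show g₀ (h₂ (h₁ (k • p))) = _
    rw [hh₁a]
    simp [hp, Finsupp.single_apply, hij]
    exact hfix₂ _ (smul_mem_kl k p)
  have hgp : g p = p := by
    have := hline 1
    rwa [one_smul, hg₀p] at this
  have hgt : g t = u := by rw [ht, hline θ, ← ht, hg₀t]
  have hgv : g v = t := by
    show g₀ (h₂ (h₁ v)) = t
    have e1 : h₁ v = e.coord j z • e j := by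
      rw [hh₁a]
      simp [hv, s, mul_sub, smul_smul, ← add_smul]
      congr 1
      field_simp
    rw [e1, hh₂e, add_comm, hp, ← hpair z]
    exact g₀.apply_symm_apply t
  -- the conjugate of the standard transvection
  let a₀ := lin (e i) (e.coord j) (LinearMap.id : K →ₗ[F] K)
  let b₀ : V →ₗ[F] V := (g : V →ₗ[F] V) ∘ₗ a₀ ∘ₗ (g.symm : V →ₗ[F] V)
  have hb₀ : InG G b₀ := InG.conj (InC.one (e := e) hG hij) hg fun x => by simp [b₀, a₀]
  have hbg : ∀ x, b₀ (g x) = g (a₀ x) := fun x => by simp [b₀]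
  have hbp : b₀ p = 0 := by
    rw [← hgp, hbg]
    simp [a₀, hp, Finsupp.single_apply, hij]
  have hbu : b₀ u = 0 := by
    rw [← hgt, hbg]
    simp [a₀, ht, Finsupp.single_apply, hij]
  have hbt : b₀ t = u := by
    rw [← hgv, hbg, ← hgt]
    simp [a₀, hv, ht]
  obtain ⟨α, β, hαβ⟩ := hexp (e.coord j (g.symm v))
  have hbv : b₀ v = α • p + β • u := by
    have h := hbg (g.symm v)
    rw [g.apply_symm_apply] at h
    rw [h, ← hgp, ← hgt, ← map_smul g, ← map_smul g, ← map_add g]
    congr 1
    simp only [a₀, lin_apply, LinearMap.id_apply, hαβ, hp, ht, add_smul, mul_smul, algebraMap_smul]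
  have hα : α = 1 := by
    rcases eq_zero_or_one hF α with h | h
    · exfalso
      have h0 : a₀ (g.symm (v - β • t)) = 0 := by
        have h' := hbg (g.symm (v - β • t))
        rw [g.apply_symm_apply, map_sub b₀, map_smul b₀, hbv, hbt, h, zero_smul, zero_add, sub_self] at h'
        exact g.map_eq_zero_iff.1 h'.symm
      simp only [a₀, lin_apply, LinearMap.id_apply, smul_eq_zero, e.ne_zero i, or_false] at h0
      have h1 := hpair (g.symm (v - β • t))
      rw [h0, zero_smul, add_zero] at h1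
      obtain ⟨a, b, hab⟩ := hexp (e.coord i (g.symm (v - β • t)))
      rw [hab, add_smul, mul_smul, algebraMap_smul, algebraMap_smul, ← ht,
        LinearEquiv.symm_apply_eq, map_add, map_smul, map_smul, hgp, hgt] at h1
      have h3 := congrArg (e.coord j) h1
      simp [hp, ht, hu, hv, Finsupp.single_apply, ← algebraMap_smul K, hij, hij.symm] at h3
      exact hθ ⟨b, h3.symm⟩
    · exact h
  have hB : ∀ β' : ZMod 2, ρ β' = β → InM (mB β') := by
    intro β' hβ'
    refine hgen _ _ hb₀ ?_
    intro l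
    fin_cases l <;>
      simp [hbV, Fin.sum_univ_four, mB, hbp, hbu, hbt, hbv, hα, hβ'] <;> abel
  have htarget : ∀ (T : Matrix (Fin 4) (Fin 4) (ZMod 2)) (c₁ c₂ : K), InM T →
      (∑ k, ρ (T k 0) • bV k = p + c₁ • e j) → (∑ k, ρ (T k 1) • bV k = t + c₂ • e j) →
      (∑ k, ρ (T k 2) • bV k = u) → (∑ k, ρ (T k 3) • bV k = v) → c₂ ≠ θ * c₁ →
      ∃ φ : K →ₗ[F] K, (∃ k, φ k ≠ k * φ 1) ∧ InC G e j i φ := by
    rintro T c₁ c₂ ⟨f, hf, hfT⟩ e0 e1 e2 e3 hne
    let φ : K →ₗ[F] K := bK.constr F ![c₁, c₂]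
    have hφ1 : φ 1 = c₁ := by
      have := bK.constr_basis F ![c₁, c₂] 0
      simpa [φ, bK] using this
    have hφθ : φ θ = c₂ := by
      have := bK.constr_basis F ![c₁, c₂] 1
      simpa [φ, bK] using this
    refine ⟨φ, ⟨θ, by rw [hφ1, hφθ]; exact hne⟩, f, hf, fun x => ?_⟩
    have : (f : V →ₗ[F] V) = LinearMap.id + lin (e j) (e.coord i) φ := bV.ext fun l => by
      show f (bV l) = bV l + lin (e j) (e.coord i) φ (bV l)
      rw [hfT, show Φ T (bV l) = _ from Matrix.toLin_self bV bV (T.map ρ) l]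
      simp only [Matrix.map_apply]
      fin_cases l
      · simpa [hbV, hp, hφ1] using e0
      · simpa [hbV, hp, ht, hφθ] using e1
      · simpa [hbV, hu, Finsupp.single_apply, hij, hij.symm] using e2
      · simpa [hbV, hv, Finsupp.single_apply, hij, hij.symm] using e3
    exact DFunLike.congr_fun this x
  rcases eq_zero_or_one hF β with hβ | hβ
  · have hB' := hB 0 (by rw [map_zero, hβ])
    have hT := hmul (hmul (hmul (hmul (hmul (hmul (hU 1 0) hB') (hU 0 1)) hD) hB') (hU 1 0)) hD
    rw [word_zero] at hT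
    refine htarget _ 1 1 hT ?_ ?_ ?_ ?_ (fun h => hθ1 (by simpa using h.symm)) <;>
      simp [hbV, Fin.sum_univ_four, hu]
  · have hB' := hB 1 (by rw [map_one, hβ])
    have hT := hmul (hmul (hmul (hmul (hmul (hmul (hU 0 1) hL) hD) hB') (hU 1 1)) hL) hB'
    rw [word_one] at hT
    refine htarget _ 0 θ hT ?_ ?_ ?_ ?_ (by simpa using hθ0) <;>
      simp [hbV, Fin.sum_univ_four, hv]

end Cfsg.Lib.Linear.ExtField
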