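import Cfsg.Agent.Lib.Linear.ExtField.Four

/-!
# Overgroups of the special linear group over an extension field of prime degree

Every coefficient is available, hence so is every transvection.
-/

set_option autoImplicit false

namespace Cfsg.Lib.Linear.ExtField

open Module

variable {F K V : Type*} [Field F] [Field K] [Algebra F K] [AddCommGroup V] [Module F V]
  [Module K V] [IsScalarTower F K V] {G : Subgroup (V ≃ₗ[F] V)} {ι : Type*} {e : Basis ι K V}

variable [Finite K] [FiniteDimensional F K] [FiniteDimensional K V]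

/-- All coefficients in dimension at least three. -/
theorem inC_three (hG : OverK K G) (h3 : 3 ≤ finrank K V) (hr : (finrank F K).Prime) {i j : ι}
    (hij : i ≠ j) (φ : K →ₗ[F] K) : InC G e i j φ := by
  classical
  have : Fintype ι := FiniteDimensional.fintypeBasisIndex e
  have hcard : Fintype.card ι = finrank K V := (Module.finrank_eq_card_basis e).symm
  have hthird : ∀ a b : ι, ∃ c, a ≠ c ∧ b ≠ c := by
    intro a b
    by_contra hc
    push Not at hc
    have : (Finset.univ : Finset ι) ⊆ {a, b} := fun c _ => by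
      by_cases h : a = c
      · simp [h]
      · simp [hc c h]
    have := (Finset.card_le_card this).trans Finset.card_le_two
    rw [Finset.card_univ] at this
    omega
  obtain ⟨l, hil, hjl⟩ := hthird i j
  obtain ⟨φ₀, hnl, hφ₀⟩ := exists_nonlinear_three (e := e) hG h3 hr hij hil hjl
  have h0 : InC G e i j φ₀ := by
    rcases hφ₀ with h | h
    · exact InC.move hG hthird hil hij h
    · exact InC.move hG hthird hjl hij h
  set M := cMod (e := e) hG hr.two_le hij
  have hM : RightClosed M := cMod_rightClosed hG hr.two_le hij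
  obtain ⟨τ, hτ, hτ0⟩ := exists_ne_one_of_nonlinear hnl
  have hτM : τ.toLinearMap ∈ M := hM.aut_mem h0 hτ0
  have hpow : ∀ n : ℕ, ((τ ^ n : Gal(K/F)).toLinearMap) ∈ M := by
    intro n
    induction n with
    | zero => exact (InC.one (e := e) hG hij).congr fun x => by simp
    | succ n ih =>
      refine (InC.comp hil hjl.symm hij (InC.move hG hthird hij hil ih)
        (InC.move hG hthird hij hjl.symm hτM)).congr fun x => ?_
      rw [pow_succ]
      rfl
  have := Fact.mk hr
  have hcardG : Nat.card Gal(K/F) = finrank F K := by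
    have : Finite F := Finite.of_injective _ (algebraMap F K).injective
    exact IsGalois.card_aut_eq_finrank F K
  have htop : M = ⊤ := eq_top_of_forall fun σ => by
    obtain ⟨n, rfl⟩ := (Submonoid.mem_powers_iff _ _).1 (mem_powers_of_prime_card hcardG hτ (g' := σ))
    exact hpow n
  have h := Submodule.mem_top (R := K) (x := φ)
  rw [← htop] at h
  exact h

/-- All coefficients in dimension two. -/
theorem inC_two (hG : OverK K G) (hm : finrank K V = 2) (hr : (finrank F K).Prime) {i j : ι}
    (hij : i ≠ j) (φ : K →ₗ[F] K) : InC G e i j φ := by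
  classical
  have : FiniteDimensional F V := Module.Finite.trans K V
  have : Fintype ι := FiniteDimensional.fintypeBasisIndex e
  have huniv : (Finset.univ : Finset ι) = {i, j} := (Finset.eq_of_subset_of_card_le
    (Finset.subset_univ _) (by rw [Finset.card_univ, Finset.card_pair hij,
      ← Module.finrank_eq_card_basis e, hm])).symm
  have hpair : ∀ x, x = e.coord i x • e i + e.coord j x • e j := by
    intro x
    conv_lhs => rw [← e.sum_repr x, huniv, Finset.sum_pair hij]
    rfl
  set M := cMod (e := e) hG hr.two_le hij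
  have hM : RightClosed M := cMod_rightClosed hG hr.two_le hij
  suffices htop : M = ⊤ by
    have h := Submodule.mem_top (R := K) (x := φ)
    rw [← htop] at h
    exact h
  by_cases h4 : Nat.card K = 4
  · have hr2 : finrank F K = 2 := by
      have : Finite F := Finite.of_injective _ (algebraMap F K).injective
      have h := Module.natCard_eq_pow_finrank (K := F) (V := K)
      have hq : 2 ≤ Nat.card F := Finite.one_lt_card
      by_contra hne
      have h3 := Nat.pow_le_pow_right (show 1 ≤ Nat.card F by omega)
        (show 3 ≤ finrank F K by have := hr.two_le; omega)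
      have := Nat.pow_le_pow_left hq 3
      omega
    obtain ⟨φ₀, hnl, hφ₀⟩ := four_nonlinear (e := e) hG hm hr2 h4 hij.symm fun x => by
      rw [add_comm]
      exact hpair x
    obtain ⟨τ, hτ, hτ0⟩ := exists_ne_one_of_nonlinear hnl
    have hτM : τ.toLinearMap ∈ M := hM.aut_mem hφ₀ hτ0
    refine eq_top_of_forall fun σ => ?_
    by_cases hσ : σ = 1
    · subst hσ
      exact (InC.one (e := e) hG hij).congr fun x => by simp
    · have : Finite F := Finite.of_injective _ (algebraMap F K).injective
      have h2 : Nat.card Gal(K/F) = 2 := by rw [IsGalois.card_aut_eq_finrank, hr2]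
      have : σ = τ := ((Nat.card_eq_two_iff' (1 : Gal(K/F))).1 h2).unique hσ hτ
      exact this ▸ hτM
  obtain ⟨y, hy0, hy1, hy⟩ := exists_trace_zero (F := F) hr.two_le h4
  set P : K →ₗ[F] K := trP y
  have hPinj : Function.Injective P := trP_injective (by rw [hy, add_zero]; exact one_ne_zero)
  have hPsurj : Function.Surjective P := LinearMap.injective_iff_surjective.1 hPinj
  -- an element acting by `P` on the line of `e i`
  obtain ⟨hR, -⟩ := reach_flat hG hm.ge hr _ le_rfl (Or.inl hm)
  let b := Module.finBasis F K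
  let T : K →ₗ[F] V := (LinearMap.toSpanSingleton K V (e i)).restrictScalars F
  have hTinj : Function.Injective T := smul_left_injective K (e.ne_zero i)
  obtain ⟨g, hg, hge⟩ := hR (fun l => T (b l)) (fun l => T (P (b l)))
    (b.linearIndependent.map' T (LinearMap.ker_eq_bot.2 hTinj))
    (b.linearIndependent.map' (T ∘ₗ P) (LinearMap.ker_eq_bot.2 (hTinj.comp hPinj)))
  have hgP : ∀ k : K, g (k • e i) = P k • e i := fun k =>
    DFunLike.congr_fun (b.ext (f₁ := (g : V →ₗ[F] V) ∘ₗ T) (f₂ := T ∘ₗ P) hge) k
  let Q : K →ₗ[F] K := (e.coord j).restrictScalars F ∘ₗ (g.symm : V →ₗ[F] V) ∘ₗ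
    (LinearMap.toSpanSingleton K V (e j)).restrictScalars F
  have hQ : ∀ x, Q (e.coord j (g x)) = e.coord j x := by
    intro x
    obtain ⟨z, hz⟩ := hPsurj (e.coord i (g x))
    have h1 : g.symm (e.coord i (g x) • e i) = z • e i := by
      rw [LinearEquiv.symm_apply_eq, hgP, hz]
    conv_rhs => rw [← g.symm_apply_apply x, hpair (g x), map_add, h1, map_add]
    simp [Q, Finsupp.single_apply, hij]
  have hQ0 : Q ≠ 0 := by
    intro h0
    have h := hQ (e j)
    rw [h0, LinearMap.zero_apply] at h
    simp at h
  have hmem : ∀ k, P ∘ₗ kmul F k ∘ₗ Q ∈ M := fun k => by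
    refine InG.conj (InC.scalar (e := e) hG hij k) hg fun x => ?_
    simp only [lin_apply, LinearMap.comp_apply, hQ, hgP]
  let M' : Submodule K (K →ₗ[F] K) :=
    { carrier := {ψ | ∀ k, ψ ∘ₗ kmul F k ∘ₗ Q ∈ M}
      zero_mem' := fun k => by simp
      add_mem' := fun ha hb k => by
        rw [LinearMap.add_comp]
        exact M.add_mem (ha k) (hb k)
      smul_mem' := fun c ψ hψ k => by
        rw [LinearMap.smul_comp]
        exact M.smul_mem c (hψ k) }
  have hM' : RightClosed M' := fun ψ hψ l k => by
    have e1 : (ψ ∘ₗ kmul F l) ∘ₗ kmul F k ∘ₗ Q = ψ ∘ₗ kmul F (l * k) ∘ₗ Q := by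
      ext x
      simp [mul_assoc]
    rw [e1]
    exact hψ (l * k)
  have hM't : M' = ⊤ := eq_top_of_forall fun σ =>
    hM'.aut_mem (φ := P) hmem (repr_trP_ne_zero hy0 hy1 σ)
  let N : Submodule K (K →ₗ[F] K) :=
    { carrier := {χ | ∀ ψ, ψ ∘ₗ χ ∈ M}
      zero_mem' := fun ψ => by simp
      add_mem' := fun ha hb ψ => by
        rw [LinearMap.comp_add]
        exact M.add_mem (ha ψ) (hb ψ)
      smul_mem' := fun c χ hχ ψ => by
        have e1 : ψ ∘ₗ (c • χ) = (ψ ∘ₗ kmul F c) ∘ₗ χ := by
          ext x
          simp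
        rw [e1]
        exact hχ _ }
  have hN : RightClosed N := fun χ hχ k ψ => by
    rw [← LinearMap.comp_assoc]
    exact hM _ (hχ ψ) k
  have hQN : Q ∈ N := fun ψ => by
    have h : ψ ∈ M' := hM't ▸ Submodule.mem_top
    simpa using h 1
  obtain ⟨τ, hτ⟩ : ∃ τ, (galBasis F K).repr Q τ ≠ 0 := by
    by_contra hc
    push Not at hc
    exact hQ0 ((galBasis F K).repr.map_eq_zero_iff.1 (Finsupp.ext hc))
  have hτN : τ.toLinearMap ∈ N := hN.aut_mem hQN hτ
  refine eq_top_iff.2 fun ψ _ => ?_
  have := hτN (ψ ∘ₗ τ.symm.toLinearMap)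
  rwa [LinearMap.comp_assoc, show τ.symm.toLinearMap ∘ₗ τ.toLinearMap = LinearMap.id from
    LinearMap.ext τ.symm_apply_apply, LinearMap.comp_id] at this

theorem inC_all (hG : OverK K G) (hm : 2 ≤ finrank K V) (hr : (finrank F K).Prime) {i j : ι}
    (hij : i ≠ j) (φ : K →ₗ[F] K) : InC G e i j φ := by
  rcases hm.eq_or_lt with h | h
  · exact inC_two hG h.symm hr hij φ
  · exact inC_three hG h hr hij φ

/-- Every transvection lies in the group. -/
theorem transvection_mem (hG : OverK K G) (hm : 2 ≤ finrank K V) (hr : (finrank F K).Prime)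
    (f : V →ₗ[F] F) (z : V) (hz : f z = 0) : InG G (f.smulRight z) := by
  classical
  have : FiniteDimensional F V := Module.Finite.trans K V
  have : Finite V := Module.finite_of_finite K
  rcases eq_or_ne z 0 with rfl | hz0
  · exact InG.zero.congr fun x => by simp
  -- centres whose line lies in the kernel
  have hline : ∀ (u : V) (f : V →ₗ[F] F), u ≠ 0 → (∀ k : K, f (k • u) = 0) →
      InG G (f.smulRight u) := by
    intro u f hu hf
    have hli : LinearIndepOn K id ({u} : Set V) := (linearIndepOn_singleton_iff (v := id) (R := K)).2 hu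
    let s := hli.extend (Set.subset_univ ({u} : Set V))
    let e : Basis s K V := Basis.extend hli
    let i₀ : s := ⟨u, hli.subset_extend _ rfl⟩
    have he : e i₀ = u := Module.Basis.extend_apply_self hli i₀
    have : Fintype s := FiniteDimensional.fintypeBasisIndex e
    let φ : s → K →ₗ[F] K := fun l => (Algebra.linearMap F K) ∘ₗ f ∘ₗ
      (LinearMap.toSpanSingleton K V (e l)).restrictScalars F
    have key : ∀ S : Finset s, InG G (∑ l ∈ S, lin (e i₀) (e.coord l) (φ l)) := by
      intro S
      induction S using Finset.induction_on with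
      | empty => exact InG.zero.congr fun x => by simp
      | insert a S ha ih =>
        rw [Finset.sum_insert ha]
        have hzero : ∀ k : K, φ i₀ k = 0 := fun k => by simp [φ, he, hf]
        by_cases hai : a = i₀
        · subst hai
          exact ih.congr fun x => by simp [hzero]
        · refine InG.add (inC_all hG hm hr (Ne.symm hai) _) ih fun x => ?_
          simp only [LinearMap.sum_apply, lin_apply, map_sum, map_smul, Finsupp.single_apply,
            Basis.coord_apply, Basis.repr_self, if_neg (Ne.symm hai), smul_eq_mul, mul_zero,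
            Finset.sum_const_zero, map_zero, zero_smul]
    refine (key Finset.univ).congr fun x => ?_
    conv_rhs => rw [← e.sum_repr x]
    simp only [LinearMap.sum_apply, lin_apply, he, LinearMap.smulRight_apply, map_sum,
      Finset.sum_smul]
    refine Finset.sum_congr rfl fun l _ => ?_
    simp [φ]
  -- all centres
  let N : Submodule F (V →ₗ[F] F) := ⨆ W : {W : Submodule F V // IsLine K G W ∧ F ∙ z ≤ W},
    W.1.dualAnnihilator
  have hN : ∀ a ∈ N, a z = 0 ∧ InG G (a.smulRight z) := by
    intro a ha
    refine Submodule.iSup_induction (fun W : {W : Submodule F V // IsLine K G W ∧ F ∙ z ≤ W} =>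
      W.1.dualAnnihilator) (motive := fun a => a z = 0 ∧ InG G (a.smulRight z)) ha ?_ ?_ ?_
    · rintro ⟨W, ⟨g, hg, u, hu, rfl⟩, hzW⟩ b hb
      rw [Submodule.mem_dualAnnihilator] at hb
      have hzW' := hzW (Submodule.mem_span_singleton_self z)
      refine ⟨hb z hzW', ?_⟩
      obtain ⟨y, hy, hyz⟩ := hzW'
      have hy0 : y ≠ 0 := fun h => hz0 (by rw [← hyz, h, map_zero])
      obtain ⟨c, hc⟩ := mem_kl.1 hy
      refine InG.conj (hline y (b ∘ₗ (g : V →ₗ[F] V)) hy0 fun k => ?_) hg fun x => ?_
      · exact hb _ ⟨k • y, mem_kl.2 ⟨k * c, by rw [mul_smul, hc]⟩, rfl⟩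
      · simp [← hyz]
    · exact ⟨rfl, InG.zero.congr fun x => by simp⟩
    · intro a b ha hb
      refine ⟨by rw [LinearMap.add_apply, ha.1, hb.1, add_zero],
        (InG.add ha.2 hb.2 fun x => by simp [ha.1]).congr fun x => by simp [add_smul]⟩
  obtain ⟨hR, hFl⟩ := reach_flat hG hm hr 1 hr.one_lt.le (Or.inr (by norm_num))
  have hcl := hFl hr.one_lt (Or.inr le_rfl) (F ∙ z) (finrank_span_singleton hz0)
  refine (hN f ?_).2
  rw [show N = (cl K G (F ∙ z)).dualAnnihilator from (Subspace.dualAnnihilator_iInf_eq _).symm, hcl,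
    Submodule.mem_dualAnnihilator]
  intro w hw
  obtain ⟨c, rfl⟩ := Submodule.mem_span_singleton.1 hw
  rw [map_smul, hz, smul_zero]

end Cfsg.Lib.Linear.ExtField
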